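import Cfsg.Agent.H52.Commuting.Functor
import Cfsg.Agent.S1251
import Mathlib.GroupTheory.SchurZassenhaus

/-!
If two strongly closed subgroups of a Sylow 2-subgroup commute and meet trivially, their conjugates
commute modulo the odd core.
-/

set_option autoImplicit false
set_option linter.style.haveILetI false

namespace Cfsg.Agent.H52.Commuting

open Subgroup
open Cfsg.Agent
open scoped commutatorElement

universe u

variable {G : Type u} [Group G] [Finite G] {S : Sylow 2 G} {T₁ T₂ : Subgroup G}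

theorem oddCore_normal_bot {N : Subgroup G} [N.Normal] (h : Cfsg.oddCore G = ⊥) :
    (Cfsg.oddCore N).map N.subtype = ⊥ :=
  le_bot_iff.mp ((Cores.map_pPrimeCore_le_of_normal N).trans h.le)

/-- A normal subgroup inside `T₂`. -/
theorem commute_of_normal_le (hp : Pair S T₁ T₂) (hO : Cfsg.oddCore G = ⊥) (W : Subgroup G)
    [W.Normal] (hWT : W ≤ T₂) (hq : CC (G ⧸ W)) {x y : G} (hx : x ∈ Conjs T₁)
    (hy : y ∈ Conjs T₂) : x * y = y * x := by
  haveI : Fact (Nat.Prime 2) := ⟨Nat.prime_two⟩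
  set f := QuotientGroup.mk' W with hf
  set Y := (Cfsg.oddCore (G ⧸ W)).comap f with hY
  set N₁ := normalClosure (T₁ : Set G) with hN₁
  haveI : Y.Normal := (inferInstance : (Cfsg.oddCore (G ⧸ W)).Normal).comap f
  have hcW : N₁ ≤ centralizer (W : Set G) :=
    normalClosure_le_normal fun t ht =>
      mem_centralizer_iff.mpr fun w hw => (hp.comm t ht w (hWT hw)).symm
  set J := N₁ ⊓ Y with hJ
  have hJW : J ≤ W := by
    set Z := W.subgroupOf J with hZ
    haveI hZn : Z.Normal := inferInstance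
    have hindex : Odd Z.index := by
      have e : Z = (f.comp J.subtype).ker := by
        ext z; simp [hZ, hf, mem_subgroupOf, QuotientGroup.eq_one_iff]
      rw [e, index_ker]
      refine Cores.odd_card_oddCore.of_dvd_nat (Subgroup.card_dvd_of_le (H := (f.comp J.subtype).range) ?_)
      rintro _ ⟨z, rfl⟩
      exact z.2.2
    have hcop : (Nat.card Z).Coprime Z.index := by
      obtain ⟨k, hk⟩ := IsPGroup.iff_card.mp
        ((S.isPGroup'.to_le (hWT.trans hp.le₂)).comap_subtype (K := J))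
      rw [show Nat.card Z = 2 ^ k from hk]
      exact ((Nat.coprime_two_left).mpr hindex).pow_left k
    obtain ⟨K, hK⟩ := Subgroup.exists_right_complement'_of_coprime hcop
    haveI : K.Normal := by
      rw [← normalizer_eq_top_iff, eq_top_iff, ← hK.sup_eq_top]
      refine sup_le (fun z hz => centralizer_le_normalizer _ (mem_centralizer_iff.mpr fun k _ => ?_))
        le_normalizer
      exact Subtype.ext (mem_centralizer_iff.mp (hcW k.2.1) _ hz).symm
    have hKodd : Odd (Nat.card K) := by rwa [← hK.symm.index_eq_card]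
    have h1 : K.map J.subtype ≤ Cfsg.oddCore G :=
      (Subgroup.map_mono (Cores.le_oddCore hKodd)).trans (Cores.map_pPrimeCore_le_of_normal J)
    rw [hO, le_bot_iff, Subgroup.map_eq_bot_iff_of_injective _ J.subtype_injective] at h1
    have h2 := hK.sup_eq_top
    rw [h1, sup_bot_eq] at h2
    exact subgroupOf_eq_top.mp h2
  have hmem : ∀ t ∈ T₁, ∀ z ∈ Conjs T₂, ⁅t, z⁆ ∈ W := by
    intro t ht z hz
    refine hJW ⟨?_, ?_⟩
    · have ht1 : t ∈ N₁ := subset_normalClosure ht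
      rw [commutatorElement_def, mul_assoc, mul_assoc]
      exact mul_mem ht1 (by
        simpa [mul_assoc] using (inferInstance : N₁.Normal).conj_mem _ (inv_mem ht1) z)
    · show f ⁅t, z⁆ ∈ Cfsg.oddCore (G ⧸ W)
      rw [map_commutatorElement]
      exact hq _ _ _ (hp.quotient W (Or.inr hWT)) _ (mk_mem_conjs (mem_conjs_self ht)) _
        (mk_mem_conjs hz)
  obtain ⟨g, t, ht, rfl⟩ := hx
  set z := g⁻¹ * y * g with hz
  have hzX : z ∈ Conjs T₂ := by
    have := conj_mem_conjs hy g⁻¹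
    rwa [inv_inv] at this
  set w := ⁅t, z⁆ with hw
  have hwW : w ∈ W := hmem t ht z hzX
  have e : z * t * z⁻¹ = w⁻¹ * t := by rw [hw, commutatorElement_def]; group
  have h1 : z * t * z⁻¹ ∈ T₁ := by
    refine hp.closed₁.2 t ht z ?_
    rw [e]
    exact mul_mem (inv_mem ((hWT.trans hp.le₂) hwW)) (hp.le₁ ht)
  rw [e] at h1
  have h2 : w⁻¹ = 1 := hp.eq_one_of_mem
    (by simpa using mul_mem h1 (inv_mem ht)) (hWT (inv_mem hwW))
  rw [inv_eq_one, hw, commutatorElement_eq_one_iff_mul_comm] at h2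
  have ey : y = g * z * g⁻¹ := by rw [hz]; group
  calc g * t * g⁻¹ * y = g * (t * z) * g⁻¹ := by rw [ey]; group
    _ = g * (z * t) * g⁻¹ := by rw [h2]
    _ = _ := by rw [ey]; group

/-- `T₁` centralizes a proper normal closure of a part of `T₂`. -/
theorem Cfg.le_centralizer (c : Cfg S T₁ T₂) {s : Set G} (hs : ∀ t ∈ s, t ∈ T₂)
    (hne : normalClosure s ≠ ⊤) : T₁ ≤ centralizer ((normalClosure s : Subgroup G) : Set G) := by
  set N := normalClosure s with hN
  have hO : Cfsg.oddCore N = ⊥ := by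
    rw [← Subgroup.map_eq_bot_iff_of_injective _ N.subtype_injective]
    exact oddCore_normal_bot c.core
  refine Cfsg.Agent.S1251.result S T₁ c.pair.closed₁ N (by rw [normalizer_eq_top]; exact le_top) hO
    (eq_bot_iff.mpr fun x hx => mem_bot.mpr (c.eq_one_of_center N hx.1 hx.2 fun n hn => ?_))
  have h : N ≤ centralizer ({x} : Set G) := by
    refine (closure_le _).mpr fun y hy => mem_centralizer_singleton_iff.mpr ?_
    obtain ⟨t, ht, hty⟩ := Group.mem_conjugatesOfSet_iff.mp hy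
    obtain ⟨g, rfl⟩ := isConj_iff.mp hty
    have h1 := c.pair.commutator_mem_of_subgroup (c.ih N hne) (mem_conjs_self hx.1)
      (conj_mem_conjs (mem_conjs_self (hs t ht)) g) hx.2
      ((inferInstance : N.Normal).conj_mem t (subset_normalClosure ht) g)
    rw [oddCore_normal_bot c.core, mem_bot, commutatorElement_eq_one_iff_mul_comm] at h1
    exact h1.symm
  exact (mem_centralizer_singleton_iff.mp (h hn)).symm

/-- Every involution of `T₁` has a commuting partner in `T₁`. -/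
theorem Cfg.exists_partner (c : Cfg S T₁ T₂) {a : G} (ha : a ∈ T₁) (ha1 : a ≠ 1)
    (ha2 : a * a = 1) : ∃ a' ∈ T₁, a' ≠ 1 ∧ a' * a' = 1 ∧ a' ≠ a ∧ a * a' = a' * a := by
  haveI : Fact (Nat.Prime 2) := ⟨Nat.prime_two⟩
  by_cases huniq : ∀ w ∈ T₁, w ≠ 1 → w * w = 1 → w = a
  · exfalso
    obtain ⟨N, hN, hNodd, hNc⟩ := Cfsg.Agent.S0215.result S a
      (orderOf_eq_prime (by rw [pow_two]; exact ha2) ha1) (c.pair.le₁ ha) (fun g hg =>
        huniq _ (c.pair.closed₁.2 a ha g hg) (fun e => ha1 (conj_eq_one_iff.mp e))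
          (by rw [show g * a * g⁻¹ * (g * a * g⁻¹) = g * (a * a) * g⁻¹ by group, ha2]; group))
    haveI := hN
    have hN' : N = ⊥ := le_bot_iff.mp (c.core ▸ Cores.le_oddCore hNodd)
    refine ha1 (c.eq_one_of_central (mem_conjs_self ha) fun g => ?_)
    have := hNc g
    rw [hN', mem_bot, mul_inv_eq_one, mul_inv_eq_iff_eq_mul] at this
    exact this
  push Not at huniq
  obtain ⟨w, hw, hw1, hw2, hwa⟩ := huniq
  have hT : IsPGroup 2 T₁ := S.isPGroup'.to_le c.pair.le₁
  haveI : Nontrivial T₁ := ⟨⟨⟨a, ha⟩, 1, fun e => ha1 (Subtype.ext_iff.mp e)⟩⟩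
  haveI := hT.center_nontrivial
  obtain ⟨k, hk⟩ := IsPGroup.iff_card.mp (hT.to_subgroup (center T₁))
  have hk0 : k ≠ 0 := fun e => by
    rw [e, pow_zero] at hk
    exact absurd hk (Finite.one_lt_card).ne'
  obtain ⟨z, hz⟩ := exists_prime_orderOf_dvd_card' 2 (hk ▸ dvd_pow_self 2 hk0)
  have hz1 : ((z : T₁) : G) ≠ 1 := fun e => by
    have : z = 1 := Subtype.ext (Subtype.ext e)
    simp [this] at hz
  have hz2 : ((z : T₁) : G) * ((z : T₁) : G) = 1 := by
    have h := pow_orderOf_eq_one z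
    rw [hz, pow_two] at h
    exact congrArg (fun q : center T₁ => ((q : T₁) : G)) h
  have hzc : ∀ t ∈ T₁, t * ((z : T₁) : G) = ((z : T₁) : G) * t := fun t ht =>
    congrArg Subtype.val (mem_center_iff.mp z.2 ⟨t, ht⟩)
  by_cases hza : ((z : T₁) : G) = a
  · exact ⟨w, hw, hw1, hw2, hwa, by rw [← hza]; exact (hzc w hw).symm⟩
  · exact ⟨_, (z : T₁).2, hz1, hz2, hza, hzc a ha⟩

/-- A four group in a conjugate of `T₁` containing a given involution. -/
theorem Cfg.exists_four (c : Cfg S T₁ T₂) {a h : G} (ha : a ∈ H48.cj h T₁) (ha1 : a ≠ 1)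
    (ha2 : a * a = 1) : ∃ U : Subgroup G, IsFour U ∧ U ≤ H48.cj h T₁ ∧ a ∈ U := by
  haveI : Fact (Nat.Prime 2) := ⟨Nat.prime_two⟩
  obtain ⟨a₀, ha₀, rfl⟩ := ha
  have h1 : a₀ ≠ 1 := fun e => ha1 (by rw [e, map_one])
  have h2 : a₀ * a₀ = 1 := (MulAut.conj h).injective (by simpa using ha2)
  obtain ⟨b, hb, hb1, hb2, hba, hab⟩ := c.exists_partner ha₀ h1 h2
  set U := zpowers a₀ ⊔ zpowers b with hU
  have hn : zpowers b ≤ normalizer (zpowers a₀ : Set G) := fun z hz =>
    centralizer_le_normalizer _ (mem_centralizer_zpowers (by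
      rcases mem_zpowers_invol hb2 hz with rfl | rfl
      · simp
      · exact hab.symm))
  have hUfour : IsFour U := by
    refine ⟨?_, fun z hz => ?_⟩
    · have hd : zpowers a₀ ⊓ zpowers b = ⊥ := by
        rw [eq_bot_iff]
        rintro z ⟨hza, hzb⟩
        rcases mem_zpowers_invol h2 hza with rfl | rfl
        · exact one_mem _
        rcases mem_zpowers_invol hb2 hzb with e | e
        · exact absurd e h1
        · exact absurd e.symm hba
      rw [hU, Coprime.card_sup hn hd, Nat.card_zpowers, Nat.card_zpowers,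
        orderOf_eq_prime (by rw [pow_two]; exact h2) h1,
        orderOf_eq_prime (by rw [pow_two]; exact hb2) hb1]
    · obtain ⟨r, hr, r', hr', rfl⟩ := (Coprime.mem_sup_iff hn).mp hz
      rcases mem_zpowers_invol h2 hr with rfl | rfl <;>
        rcases mem_zpowers_invol hb2 hr' with rfl | rfl
      · simp
      · simpa using hb2
      · simpa using h2
      · calc r * r' * (r * r') = r * (r' * r) * r' := by group
          _ = r * (r * r') * r' := by rw [hab]
          _ = (r * r) * (r' * r') := by group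
          _ = 1 := by rw [h2, hb2, one_mul]
  refine ⟨H48.cj h U, ⟨by rw [H48.card_cj]; exact hUfour.card, ?_⟩,
    H48.cj_mono (sup_le (zpowers_le.mpr ha₀) (zpowers_le.mpr hb)),
    H48.conj_mem_cj (mem_sup_left (mem_zpowers a₀))⟩
  rintro _ ⟨z, hz, rfl⟩
  rw [← map_mul, hUfour.sq z hz, map_one]

theorem Cfg.exists_frame (c : Cfg S T₁ T₂) {a b : G} (ha : a ∈ Conjs T₁) (ha1 : a ≠ 1)
    (ha2 : a * a = 1) (hb : b ∈ Conjs T₂) (hb1 : b ≠ 1) (hb2 : b * b = 1) (hab : a * b = b * a) :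
    ∃ U V, Frame T₁ T₂ U V ∧ a ∈ U ∧ b ∈ V := by
  haveI : Fact (Nat.Prime 2) := ⟨Nat.prime_two⟩
  obtain ⟨h, hh⟩ := exists_cover S (isPGroup_pair (isPGroup_zpowers_conjs c.pair.le₁ ha)
    (isPGroup_zpowers_conjs c.pair.le₂ hb) hab)
  obtain ⟨U, hU, hUle, haU⟩ := c.exists_four
    (mem_cj_of_mem_conjs c.pair.closed₁ ha (hh (mem_sup_left (mem_zpowers a)))) ha1 ha2
  obtain ⟨V, hV, hVle, hbV⟩ := c.symm.exists_four
    (mem_cj_of_mem_conjs c.pair.closed₂ hb (hh (mem_sup_right (mem_zpowers b)))) hb1 hb2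
  exact ⟨U, V, ⟨hU, hV, fun u hu => mem_conjs_of_mem_cj (hUle hu),
    fun v hv => mem_conjs_of_mem_cj (hVle hv),
    fun u hu v hv => c.pair.commute_of_cj (hUle hu) (hVle hv)⟩, haU, hbV⟩

/-- Splitting a pair of involutions from the two sides. -/
theorem Cfg.split (c : Cfg S T₁ T₂) {a b : G} (ha : a ∈ Conjs T₁) (ha1 : a ≠ 1) (ha2 : a * a = 1)
    (hb : b ∈ Conjs T₂) (hb1 : b ≠ 1) (hb2 : b * b = 1) :
    ∃ b' ∈ Conjs T₂, b' ≠ 1 ∧ b' * b' = 1 ∧ a * b' = b' * a ∧
      ∃ f ∈ cCore (a * b'), a * f * a⁻¹ = f⁻¹ ∧ f * b' * f⁻¹ = b := by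
  haveI : Fact (Nat.Prime 2) := ⟨Nat.prime_two⟩
  set d := a * b with hd
  have hainv : a⁻¹ = a := inv_eq_of_mul_eq_one_right ha2
  have hbinv : b⁻¹ = b := inv_eq_of_mul_eq_one_right hb2
  have had : a * d * a⁻¹ = d⁻¹ := by
    rw [hd, mul_inv_rev, hainv, hbinv, ← mul_assoc a a b, ha2, one_mul]
  have hadk : ∀ j : ℤ, a * d ^ j * a⁻¹ = d ^ (-j) := fun j => by
    rw [← conj_zpow, had, inv_zpow']
  have hadk' : ∀ j : ℤ, a * d ^ j = d ^ (-j) * a := fun j => by
    rw [← hadk j]; group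
  have heven : ∀ j : ℤ, d ^ (2 * j) * a ∈ Conjs T₁ := fun j => by
    have e : d ^ (2 * j) * a = d ^ j * a * (d ^ j)⁻¹ := by
      rw [mul_assoc (d ^ j), ← zpow_neg, hadk', neg_neg, ← mul_assoc, ← zpow_add, two_mul]
    rw [e]; exact conj_mem_conjs ha _
  have hodd : ∀ j : ℤ, d ^ (2 * j + 1) * a ∈ Conjs T₂ := fun j => by
    have e : d ^ (2 * j + 1) * a = d ^ j * (d * a) * (d ^ j)⁻¹ := by
      rw [mul_assoc (d ^ j), mul_assoc d, ← zpow_neg, hadk', neg_neg, ← mul_assoc d,
        show d * d ^ j = d ^ (1 + j) by rw [zpow_add, zpow_one], ← mul_assoc, ← zpow_add]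
      congr 2
      ring
    rw [e]
    refine conj_mem_conjs ?_ _
    have : d * a = a * b * a⁻¹ := by rw [hd, hainv]
    rw [this]; exact conj_mem_conjs hb a
  set n := orderOf d with hn
  have hnpos : n ≠ 0 := (orderOf_pos d).ne'
  obtain ⟨k, r, hr, hkr⟩ := Nat.exists_eq_two_pow_mul_odd hnpos
  obtain ⟨t, ht⟩ := hr
  have hk0 : k ≠ 0 := by
    rintro rfl
    have h1 := hodd t
    have e : d ^ (2 * (t : ℤ) + 1) = 1 := by
      rw [show (2 * (t : ℤ) + 1) = ((n : ℕ) : ℤ) by rw [hkr, ht]; push_cast; ring, zpow_natCast,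
        hn, pow_orderOf_eq_one]
    rw [e, one_mul] at h1
    exact ha1 (c.pair.eq_one ha h1)
  have hk1 : k = 1 := by
    by_contra hk
    have hk2 : 2 ≤ k := by omega
    set b₁ := d ^ (2 * (t : ℤ) + 1) * a with hb₁
    set e := d ^ (2 * (t : ℤ) + 1) with he
    have hep : IsPGroup 2 (zpowers e) := by
      refine IsPGroup.of_card (n := k) ?_
      rw [Nat.card_zpowers, he, show (2 * (t : ℤ) + 1) = ((r : ℕ) : ℤ) by rw [ht]; push_cast; ring,
        zpow_natCast, orderOf_pow, ← hn, hkr, Nat.gcd_eq_right (Dvd.intro_left _ rfl),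
        Nat.mul_div_cancel _ (by omega)]
    have hP : IsPGroup 2 (zpowers e ⊔ zpowers a : Subgroup G) := by
      refine hep.to_sup_of_normal_left' (isPGroup_zpowers_conjs c.pair.le₁ ha) ?_
      rw [zpowers_le]
      refine H48.mem_normalizer_of_cj_eq (H48.cj_eq_self_of_le (H48.cj_le.mpr fun z hz => ?_))
      obtain ⟨j, rfl⟩ := mem_zpowers_iff.mp hz
      rw [← conj_zpow, he, hadk, ← zpow_mul]
      refine mem_zpowers_iff.mpr ⟨-j, ?_⟩
      rw [← zpow_mul]; congr 1; ring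
    have hcom := c.pair.commute_of_pgroup hP ha (hodd t) (mem_sup_right (mem_zpowers a))
      (mul_mem (mem_sup_left (mem_zpowers e)) (mem_sup_right (mem_zpowers a)))
    have e2 : d ^ ((2 * r : ℕ)) = 1 := by
      rw [← mul_assoc, hadk', mul_assoc, mul_assoc, ha2, mul_one, mul_one] at hcom
      rw [← zpow_natCast, show ((2 * r : ℕ) : ℤ) = (2 * (t : ℤ) + 1) + (2 * (t : ℤ) + 1) by
        rw [ht]; push_cast; ring, zpow_add]
      nth_rw 1 [← hcom]
      rw [← zpow_add, neg_add_cancel, zpow_zero]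
    have h3 := Nat.le_of_dvd (by omega) (orderOf_dvd_of_pow_eq_one e2)
    rw [← hn, hkr] at h3
    have : 4 ≤ 2 ^ k := by
      calc (4 : ℕ) = 2 ^ 2 := rfl
        _ ≤ 2 ^ k := Nat.pow_le_pow_right (by norm_num) hk2
    nlinarith
  subst hk1
  set m : ℤ := 2 * (t : ℤ) + 1 with hm
  have h2m : d ^ (2 * m) = 1 := by
    rw [show 2 * m = ((n : ℕ) : ℤ) by rw [hkr, ht, hm]; push_cast; ring, zpow_natCast, hn,
      pow_orderOf_eq_one]
  have hmneg : d ^ (-m) = d ^ m := by
    calc d ^ (-m) = d ^ (-m) * d ^ (2 * m) := by rw [h2m, mul_one]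
      _ = d ^ m := by rw [← zpow_add]; congr 1; ring
  set b' := d ^ m * a with hb'
  have hab' : a * b' = b' * a := by
    rw [hb', ← mul_assoc, hadk', hmneg]
  have hz : a * b' = d ^ m := by rw [hab', hb', mul_assoc, ha2, mul_one]
  have hb'2 : b' * b' = 1 := by
    rw [hb']
    calc d ^ m * a * (d ^ m * a) = d ^ m * (a * d ^ m) * a := by group
      _ = d ^ m * d ^ (-m) * (a * a) := by rw [hadk']; group
      _ = 1 := by rw [ha2, mul_one, ← zpow_add, add_neg_cancel, zpow_zero]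
  have hb'X : b' ∈ Conjs T₂ := hodd t
  have hb'1 : b' ≠ 1 := fun e => by
    rw [e, mul_one] at hz
    have : a * d = d * a := by
      rw [hz]; exact ((Commute.refl d).zpow_left m).eq
    have h4 : d = d⁻¹ := by rw [← had, this]; group
    have h5 : n ∣ 2 := orderOf_dvd_of_pow_eq_one (by
      rw [pow_two]; nth_rw 2 [h4]; group)
    have h6 := Nat.le_of_dvd two_pos h5
    rw [hkr, ht] at h6
    have ht0 : t = 0 := by omega
    subst ht0
    rw [hm] at hz
    simp at hz
    exact hb1 (by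
      have : a * b = a := by rw [← hd]; exact hz.symm
      exact mul_eq_left.mp this)
  refine ⟨b', hb'X, hb'1, hb'2, hab', ?_⟩
  have hz1 : ¬ ∀ g : G, (a * b') * g = g * (a * b') :=
    c.prod_not_central ha hb'X ha1 ha2 hb'2 hab'
  have hCz : centralizer ({a * b'} : Set G) ≠ ⊤ := fun h =>
    hz1 fun g => (mem_centralizer_singleton_iff.mp (h ▸ mem_top g)).symm
  have hbz : b * (a * b') = a * b' * b := by
    rw [hz, show b = a * d by rw [hd, ← mul_assoc, ha2, one_mul]]
    calc a * d * d ^ m = a * d ^ (1 + m) := by rw [mul_assoc, ← zpow_one_add]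
      _ = a * d ^ m * d := by rw [add_comm, zpow_add, zpow_one]; group
      _ = d ^ (-m) * a * d := by rw [hadk']
      _ = _ := by rw [hmneg]; group
  have hcomm := c.pair.commutator_mem_of_subgroup (c.ih _ hCz) ha hb
    (mem_centralizer_singleton_iff.mpr (by rw [← mul_assoc, ha2, one_mul, hab', mul_assoc, ha2, mul_one]))
    (mem_centralizer_singleton_iff.mpr hbz)
  have hd2 : d * d ∈ cCore (a * b') := by
    have : ⁅a, b⁆ = d * d := by rw [commutatorElement_def, hainv, hbinv, hd]; group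
    rwa [this] at hcomm
  set i : ℤ := -(((t : ℤ) + 1) * ((t : ℤ) + 1)) with hi
  refine ⟨d ^ (2 * i), ?_, ?_, ?_⟩
  · rw [zpow_mul]
    refine zpow_mem ?_ i
    rwa [show d ^ (2 : ℤ) = d * d by rw [zpow_two]]
  · rw [hadk, zpow_neg]
  · have e : d ^ (2 * i) * b' * (d ^ (2 * i))⁻¹ = d ^ (2 * (2 * i) + m) * a := by
      rw [hb', ← zpow_neg]
      calc d ^ (2 * i) * (d ^ m * a) * d ^ (-(2 * i))
          = d ^ (2 * i) * d ^ m * (a * d ^ (-(2 * i))) := by group
        _ = _ := by rw [hadk', neg_neg, ← mul_assoc, ← zpow_add, ← zpow_add]; congr 2; ring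
    rw [e, show 2 * (2 * i) + m = -1 + (2 * m) * (-((t : ℤ) + 1)) + 0 by rw [hi, hm]; ring, add_zero,
      zpow_add, zpow_mul, h2m, one_zpow, mul_one, zpow_neg_one, hd, mul_inv_rev, hainv, hbinv,
      mul_assoc, ha2, mul_one]

theorem odd_card_sup {H K : Subgroup G} (h : H ≤ normalizer (K : Set G)) (hH : Odd (Nat.card H))
    (hK : Odd (Nat.card K)) : Odd (Nat.card ↥(H ⊔ K)) := by
  set M := normalizer (K : Set G) with hM
  haveI : (K.subgroupOf M).Normal := normal_subgroupOf_of_le_normalizer le_rfl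
  have hd := Cores.card_sup_dvd (H.subgroupOf M) (K.subgroupOf M)
  rw [← subgroupOf_sup h le_normalizer,
    Nat.card_congr (subgroupOfEquivOfLe (sup_le h le_normalizer)).toEquiv,
    Nat.card_congr (subgroupOfEquivOfLe h).toEquiv,
    Nat.card_congr (subgroupOfEquivOfLe (le_normalizer : K ≤ M)).toEquiv] at hd
  exact (hH.mul hK).of_dvd_nat hd

theorem odd_card_iSup {ι : Type*} [Finite ι] (K : ι → Subgroup G) (hodd : ∀ i, Odd (Nat.card (K i)))
    (hn : ∀ i j, K i ≤ normalizer (K j : Set G)) : Odd (Nat.card ↥(⨆ i, K i)) := by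
  classical
  haveI := Fintype.ofFinite ι
  have key : ∀ s : Finset ι, Odd (Nat.card ↥(s.sup K)) ∧
      ∀ i, K i ≤ normalizer ((s.sup K : Subgroup G) : Set G) := by
    intro s
    induction s using Finset.induction with
    | empty => exact ⟨by simp, fun i g _ => by rw [Finset.sup_empty, normalizer_eq_top]; exact mem_top g⟩
    | insert j s hj ih =>
      rw [Finset.sup_insert]
      exact ⟨odd_card_sup (ih.2 j) (hodd j) ih.1,
        fun i g hg => mem_normalizer_sup (hn i j hg) (ih.2 i hg)⟩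
  rw [show (⨆ i, K i) = Finset.univ.sup K by rw [Finset.sup_univ_eq_iSup]]
  exact (key _).1

/-- The subgroup generated by all signalizers through `a`. -/
noncomputable def bigK (T₁ T₂ : Subgroup G) (a : G) : Subgroup G :=
  ⨆ p : {p : Subgroup G × Subgroup G // Frame T₁ T₂ p.1 p.2 ∧ a ∈ p.1}, gen (p.1.1 ⊔ p.1.2)

theorem Cfg.commute_invol (c : Cfg S T₁ T₂)
    (htop : normalClosure {t : G | t ∈ T₂ ∧ t * t = 1} = ⊤) {a : G} (ha : a ∈ Conjs T₁)
    (ha1 : a ≠ 1) (ha2 : a * a = 1) : False := by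
  set K := bigK T₁ T₂ a with hK
  have hodd : Odd (Nat.card K) := odd_card_iSup _ (fun p => (gen_spec c p.2.1).1)
    fun p q => gen_le_normalizer_gen' c q.2.1 p.2.1 q.2.2 p.2.2 ha1
  have hnorm : ∀ g, g * a = a * g → g ∈ normalizer (K : Set G) := by
    intro g hg
    have hga : g * a * g⁻¹ = a := by rw [hg]; group
    refine H48.mem_normalizer_of_cj_eq (H48.cj_eq_self_of_le (Subgroup.map_le_iff_le_comap.mpr ?_))
    refine iSup_le fun p => ?_
    obtain ⟨⟨U, V⟩, hF, haU⟩ := p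
    rw [← Subgroup.map_le_iff_le_comap]
    change H48.cj g (gen (U ⊔ V)) ≤ K
    rw [cj_gen, show H48.cj g (U ⊔ V) = H48.cj g U ⊔ H48.cj g V from Subgroup.map_sup _ _ _]
    refine le_iSup (fun p : {p : Subgroup G × Subgroup G // Frame T₁ T₂ p.1 p.2 ∧ a ∈ p.1} =>
      gen (p.1.1 ⊔ p.1.2)) ⟨(H48.cj g U, H48.cj g V), ⟨⟨?_, ?_⟩, ⟨?_, ?_⟩, ?_, ?_, ?_⟩, ?_⟩
    · rw [H48.card_cj]; exact hF.four₁.card
    · rintro _ ⟨x, hx, rfl⟩; rw [← map_mul, hF.four₁.sq x hx, map_one]
    · rw [H48.card_cj]; exact hF.four₂.card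
    · rintro _ ⟨x, hx, rfl⟩; rw [← map_mul, hF.four₂.sq x hx, map_one]
    · rintro _ ⟨x, hx, rfl⟩; exact conj_mem_conjs (hF.sub₁ x hx) g
    · rintro _ ⟨x, hx, rfl⟩; exact conj_mem_conjs (hF.sub₂ x hx) g
    · rintro _ ⟨x, hx, rfl⟩ _ ⟨y, hy, rfl⟩
      rw [← map_mul, ← map_mul, hF.comm x hx y hy]
    · simpa [hga] using H48.conj_mem_cj (g := g) haU
  have hkey : ∀ b ∈ Conjs T₂, b * b = 1 →
      b ∈ normalizer (K : Set G) ∧ (K = ⊥ → a * b = b * a) := by
    intro b hb hb2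
    by_cases hb1 : b = 1
    · subst hb1; exact ⟨one_mem _, fun _ => by simp⟩
    obtain ⟨b', hb', hb'1, hb'2, hab', f, hf, hfi, hfb⟩ := c.split ha ha1 ha2 hb hb1 hb2
    obtain ⟨U, V, hF, haU, hbV⟩ := c.exists_frame ha ha1 ha2 hb' hb'1 hb'2 hab'
    have hfK : f ∈ K := by
      have hff : f * f ∈ K := by
        have h1 : ⁅f, a⁆ = f * f := by
          have h : a * f⁻¹ * a⁻¹ = f := by
            calc a * f⁻¹ * a⁻¹ = (a * f * a⁻¹)⁻¹ := by group
              _ = f := by rw [hfi, inv_inv]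
          calc ⁅f, a⁆ = f * (a * f⁻¹ * a⁻¹) := by rw [commutatorElement_def]; group
            _ = _ := by rw [h]
        refine le_iSup (fun p : {p : Subgroup G × Subgroup G // Frame T₁ T₂ p.1 p.2 ∧ a ∈ p.1} =>
          gen (p.1.1 ⊔ p.1.2)) ⟨(U, V), hF, haU⟩ ?_
        refine theta_le_gen (x := a * b') (mul_mem (mem_sup_left haU) (mem_sup_right hbV)) ?_ ?_
        · intro e
          exact ha1 (c.pair.eq_one ha (by
            rw [show a = b'⁻¹ from eq_inv_of_mul_eq_one_left e]; exact inv_mem_conjs hb'))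
        rw [theta_prod c hF haU ha1 hbV hb'1, ← h1]
        exact mem_sup_left (commutator_mem_commutator hf (mem_zpowers a))
      obtain ⟨r, hr⟩ := odd_orderOf (odd_cCore _) hf
      have e : f = (f * f) ^ (r + 1) := by
        rw [← pow_two, ← pow_mul, show 2 * (r + 1) = orderOf f + 1 by omega, pow_succ,
          pow_orderOf_eq_one, one_mul]
      rw [e]; exact pow_mem hff _
    refine ⟨?_, fun hbot => ?_⟩
    · rw [← hfb]
      exact mul_mem (mul_mem (le_normalizer hfK) (hnorm b' hab'.symm)) (inv_mem (le_normalizer hfK))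
    · rw [hbot, mem_bot] at hfK
      rw [hfK] at hfb
      rw [← hfb]; simpa using hab'
  have hgen : ∀ M : Subgroup G, (∀ b ∈ Conjs T₂, b * b = 1 → b ∈ M) → M = ⊤ := by
    intro M hM
    rw [eq_top_iff, ← htop]
    refine (closure_le _).mpr fun y hy => ?_
    obtain ⟨t, ht, hty⟩ := Group.mem_conjugatesOfSet_iff.mp hy
    obtain ⟨g, rfl⟩ := isConj_iff.mp hty
    exact hM _ (conj_mem_conjs (mem_conjs_self ht.1) g)
      (by rw [show g * t * g⁻¹ * (g * t * g⁻¹) = g * (t * t) * g⁻¹ by group, ht.2]; group)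
  haveI : K.Normal := normalizer_eq_top_iff.mp (hgen _ fun b hb hb2 => (hkey b hb hb2).1)
  have hKbot : K = ⊥ := le_bot_iff.mp (c.core ▸ Cores.le_oddCore hodd)
  refine c.centralizer_ne_top ha ha1 (hgen _ fun b hb hb2 => ?_)
  exact mem_centralizer_singleton_iff.mpr ((hkey b hb hb2).2 hKbot).symm

theorem exists_invol {T : Subgroup G} (hT : IsPGroup 2 T) (hne : T ≠ ⊥) :
    ∃ t ∈ T, t ≠ 1 ∧ t * t = 1 := by
  haveI : Fact (Nat.Prime 2) := ⟨Nat.prime_two⟩
  haveI := (Subgroup.nontrivial_iff_ne_bot T).mpr hne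
  obtain ⟨k, hk⟩ := IsPGroup.iff_card.mp hT
  have hk0 : k ≠ 0 := fun e => by
    rw [e, pow_zero] at hk
    exact absurd hk (Finite.one_lt_card).ne'
  obtain ⟨z, hz⟩ := exists_prime_orderOf_dvd_card' 2 (hk ▸ dvd_pow_self 2 hk0)
  refine ⟨z, z.2, fun e => ?_, ?_⟩
  · rw [show z = 1 from Subtype.ext e, orderOf_one] at hz
    exact absurd hz (by norm_num)
  · have h := pow_orderOf_eq_one z
    rw [hz, pow_two] at h
    exact congrArg Subtype.val h

theorem Cfg.commute_all (c : Cfg S T₁ T₂) {x y : G} (hx : x ∈ Conjs T₁) (hy : y ∈ Conjs T₂) :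
    x * y = y * x := by
  by_cases h₁ : T₁ = ⊥
  · subst h₁
    obtain ⟨g, t, ht, rfl⟩ := hx
    rw [mem_bot.mp ht]; simp
  by_cases h₂ : T₂ = ⊥
  · subst h₂
    obtain ⟨g, t, ht, rfl⟩ := hy
    rw [mem_bot.mp ht]; simp
  set I := normalClosure {t : G | t ∈ T₂ ∧ t * t = 1} with hI
  by_cases hIt : I = ⊤
  · obtain ⟨a, ha, ha1, ha2⟩ := exists_invol (S.isPGroup'.to_le c.pair.le₁) h₁
    exact (c.commute_invol hIt (mem_conjs_self ha) ha1 ha2).elim
  have hT₁ : T₁ ≤ centralizer (I : Set G) := c.le_centralizer (fun t ht => ht.1) hIt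
  set N₁ := normalClosure (T₁ : Set G) with hN₁
  have hN₁I : N₁ ≤ centralizer (I : Set G) := normalClosure_le_normal hT₁
  by_cases hN₁t : N₁ = ⊤
  · exfalso
    obtain ⟨t, ht, ht1, ht2⟩ := exists_invol (S.isPGroup'.to_le c.pair.le₂) h₂
    exact ht1 (c.symm.eq_one_of_central (mem_conjs_self ht) fun g =>
      mem_centralizer_iff.mp (hN₁I (hN₁t ▸ mem_top g)) t (subset_normalClosure ⟨ht, ht2⟩))
  have hT₂ : T₂ ≤ centralizer (N₁ : Set G) := c.symm.le_centralizer (fun t ht => ht) hN₁t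
  exact mem_centralizer_iff.mp (conjs_subset_of_le hT₂ hy) x
    (conjs_subset_of_le (fun t ht => subset_normalClosure ht) hx)

theorem card_quotient_lt {W : Subgroup G} [W.Normal] (hW : W ≠ ⊥) : Nat.card (G ⧸ W) < Nat.card G := by
  rw [card_eq_card_quotient_mul_card_subgroup W]
  have h1 : 1 < Nat.card W := (one_lt_card_iff_ne_bot W).mpr hW
  exact lt_mul_of_one_lt_right Nat.card_pos h1

theorem cc_aux : ∀ (n : ℕ) (G : Type u) [Group G] [Finite G], Nat.card G < n → CC G := by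
  intro n
  induction n with
  | zero => intro G _ _ h; omega
  | succ n ih =>
    intro G _ _ hn S T₁ T₂ hp x hx y hy
    have hquot : ∀ (W : Subgroup G) [W.Normal], W ≠ ⊥ → CC (G ⧸ W) := fun W _ hW =>
      ih _ ((card_quotient_lt hW).trans_le (Nat.lt_succ_iff.mp hn))
    by_cases hO : Cfsg.oddCore G = ⊥
    · rw [hO, mem_bot, commutatorElement_eq_one_iff_mul_comm]
      by_cases h₂ : ∃ W : Subgroup G, W.Normal ∧ W ≤ T₂ ∧ W ≠ ⊥
      · obtain ⟨W, hWn, hWT, hW⟩ := h₂
        exact commute_of_normal_le hp hO W hWT (hquot W hW) hx hy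
      by_cases h₁ : ∃ W : Subgroup G, W.Normal ∧ W ≤ T₁ ∧ W ≠ ⊥
      · obtain ⟨W, hWn, hWT, hW⟩ := h₁
        exact (commute_of_normal_le hp.symm hO W hWT (hquot W hW) hy hx).symm
      push Not at h₁ h₂
      refine (⟨hp, hO, fun H hH => ih H (lt_of_lt_of_le ?_ (Nat.lt_succ_iff.mp hn)), h₁, h₂⟩ :
        Cfg S T₁ T₂).commute_all hx hy
      refine lt_of_le_of_ne (Subgroup.card_le_card_group H) fun e => hH ?_
      exact Subgroup.eq_top_of_card_eq H e
    · have hp' := hp.quotient (Cfsg.oddCore G) (Or.inl Cores.odd_card_oddCore)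
      have h := hquot (Cfsg.oddCore G) hO _ _ _ hp' _ (mk_mem_conjs hx) _ (mk_mem_conjs hy)
      rw [show Cfsg.oddCore (G ⧸ Cfsg.oddCore G) = ⊥ from Cores.pPrimeCore_quotient_pPrimeCore,
        mem_bot, ← map_commutatorElement] at h
      exact (QuotientGroup.eq_one_iff _).mp h

/-- Conjugates of commuting, disjoint, strongly closed 2-subgroups commute modulo the odd core. -/
theorem commutator_mem_oddCore (hp : Pair S T₁ T₂) {x y : G} (hx : x ∈ Conjs T₁)
    (hy : y ∈ Conjs T₂) : ⁅x, y⁆ ∈ Cfsg.oddCore G :=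
  cc_aux (Nat.card G + 1) G (Nat.lt_succ_self _) S T₁ T₂ hp x hx y hy

end Cfsg.Agent.H52.Commuting
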