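import Cfsg.Agent.H52.Commuting.Main
import Mathlib.GroupTheory.Transfer

/-!
If the Sylow 2-subgroup is the product of two disjoint commuting strongly closed subgroups, the group
is a direct product accordingly (given `O(G) = 1`).
-/

set_option autoImplicit false
set_option linter.style.haveILetI false

namespace Cfsg.Agent.H52.Commuting

open Subgroup
open Cfsg.Agent
open scoped commutatorElement

universe u

variable {G : Type u} [Group G] [Finite G] {S : Sylow 2 G} {T₁ T₂ : Subgroup G}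

theorem le_centralizer_closures (hp : Pair S T₁ T₂) (hO : Cfsg.oddCore G = ⊥) :
    normalClosure (T₁ : Set G) ≤ centralizer ((normalClosure (T₂ : Set G) : Subgroup G) : Set G) := by
  refine normalClosure_le_normal fun t ht => mem_centralizer_iff.mpr fun z hz => ?_
  have h : normalClosure (T₂ : Set G) ≤ centralizer ({t} : Set G) := by
    refine (closure_le _).mpr fun y hy => ?_
    obtain ⟨b, hb, hby⟩ := Group.mem_conjugatesOfSet_iff.mp hy
    obtain ⟨g, rfl⟩ := isConj_iff.mp hby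
    have h1 := commutator_mem_oddCore hp (mem_conjs_self ht) (conj_mem_conjs (mem_conjs_self hb) g)
    rw [hO, mem_bot, commutatorElement_eq_one_iff_mul_comm] at h1
    exact mem_centralizer_singleton_iff.mpr h1.symm
  exact mem_centralizer_singleton_iff.mp (h hz)

theorem conj_mem_of_closed {T : Subgroup G} (hT : Cfsg.IsStronglyClosed T (S : Subgroup G)) {x : G}
    (hx : x ∈ Conjs T) (hxS : x ∈ (S : Subgroup G)) : x ∈ T := by
  have h := mem_cj_of_mem_conjs hT hx (h := 1) (by rwa [H48.cj_one])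
  rwa [H48.cj_one] at h

/-- A Sylow subgroup cuts a normal subgroup in a Sylow subgroup of it. -/
theorem not_dvd_relIndex_normal (S : Sylow 2 G) (N : Subgroup G) [N.Normal] :
    ¬ 2 ∣ (S : Subgroup G).relIndex N := by
  haveI : Fact (Nat.Prime 2) := ⟨Nat.prime_two⟩
  rw [← inf_relIndex_right]
  obtain ⟨R, hR, hle⟩ := H48.exists_isSylowIn_ge (H := N) (Q := (S : Subgroup G) ⊓ N)
    (S.isPGroup'.to_le inf_le_left) inf_le_right
  obtain ⟨x, -, hx⟩ := (H48.isSylowIn_sylow S).exists_cj_le hR.isPGroup le_top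
  have h1 : H48.cj x R ≤ (S : Subgroup G) ⊓ N := le_inf hx (H48.cj_le.mpr fun r hr =>
    (inferInstance : N.Normal).conj_mem r (hR.le hr) x)
  have h2 : (S : Subgroup G) ⊓ N = R := H48.eq_of_le_of_card_le hle
    ((H48.card_cj x R).symm.trans_le (Subgroup.card_le_of_le h1))
  rw [h2]
  exact hR.ndvd

/-- The normal closure of `T₁` meets `T₂` trivially. -/
theorem normalClosure_inf_eq_bot (hp : Pair S T₁ T₂) (hO : Cfsg.oddCore G = ⊥)
    (htop : T₁ ⊔ T₂ = (S : Subgroup G)) : normalClosure (T₁ : Set G) ⊓ T₂ = ⊥ := by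
  haveI : Fact (Nat.Prime 2) := ⟨Nat.prime_two⟩
  set N := normalClosure (T₁ : Set G) with hN
  set W := (N ⊓ T₂).subgroupOf N with hW
  set P := (S : Subgroup G).subgroupOf N with hP
  have hcen : ∀ w ∈ N ⊓ T₂, ∀ n ∈ N, w * n = n * w := fun w hw n hn =>
    mem_centralizer_iff.mp (le_centralizer_closures hp hO hn) w (subset_normalClosure hw.2)
  haveI hWab : IsMulCommutative W :=
    ⟨⟨fun a b => Subtype.ext (Subtype.ext (hcen _ a.2 _ (b : N).2))⟩⟩
  have hsplit : ∀ p : P, ∃ w : W, ((p : N) : G) * (((w : W) : N) : G)⁻¹ ∈ T₁ := by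
    intro p
    have hpS : ((p : N) : G) ∈ T₂ ⊔ T₁ := by rw [sup_comm, htop]; exact p.2
    obtain ⟨b, hb, a, ha, hab⟩ := (Coprime.mem_sup_iff (H := T₁) (fun a ha => centralizer_le_normalizer _
      (mem_centralizer_iff.mpr fun b hb => (hp.comm a ha b hb).symm))).mp hpS
    have hbN : b ∈ N := by
      have := N.mul_mem (p : N).2 (N.inv_mem (subset_normalClosure ha))
      rw [← hab] at this
      simpa using this
    refine ⟨⟨⟨b, hbN⟩, hbN, hb⟩, ?_⟩
    show ((p : N) : G) * b⁻¹ ∈ T₁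
    rw [← hab, ← hp.comm a ha b hb]
    simpa using ha
  choose π hπ using hsplit
  have huniq : ∀ (p : P) (w : W), ((p : N) : G) * (((w : W) : N) : G)⁻¹ ∈ T₁ → π p = w := by
    intro p w hw
    apply Subtype.ext; apply Subtype.ext
    have h1 : (((w : W) : N) : G) * (((π p : W) : N) : G)⁻¹ ∈ T₁ ⊓ T₂ := by
      refine ⟨?_, T₂.mul_mem w.2.2 (T₂.inv_mem (π p).2.2)⟩
      have := T₁.mul_mem (T₁.inv_mem hw) (hπ p)
      simpa [mul_assoc] using this
    rw [hp.disj, mem_bot, mul_inv_eq_one] at h1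
    exact h1.symm
  let φ : P →* W := MonoidHom.mk' π fun p q => huniq _ _ (by
    have h := T₁.mul_mem (hπ p) (hπ q)
    have hc : Commute ((((π p : W) : N) : G)⁻¹) (((q : N) : G) * (((π q : W) : N) : G)⁻¹) :=
      (show Commute (((π p : W) : N) : G) (((q : N) : G) * (((π q : W) : N) : G)⁻¹) from
        (hp.comm _ (hπ q) _ (π p).2.2).symm).inv_left
    show ((p : N) : G) * ((q : N) : G) * ((((π p : W) : N) : G) * (((π q : W) : N) : G))⁻¹ ∈ T₁
    rw [mul_inv_rev]
    rw [mul_assoc, hc.eq] at h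
    simpa [mul_assoc] using h)
  have hfin : P.FiniteIndex := inferInstance
  let τ : N →* W := by
    classical
    open scoped IsMulCommutative in exact MonoidHom.transfer φ
  have hgen : ∀ g : N, ((g : G) ∈ Conjs T₁) → τ g = 1 := by
    intro g hg
    classical
    open scoped IsMulCommutative in
    haveI := Fintype.ofFinite (Quotient (MulAction.orbitRel (zpowers g) (N ⧸ P)))
    open scoped IsMulCommutative in
    rw [show τ g = MonoidHom.transfer φ g from rfl,
      MonoidHom.transfer_eq_prod_quotient_orbitRel_zpowers_quot]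
    refine Finset.prod_eq_one fun q _ => huniq _ 1 ?_
    simp only [OneMemClass.coe_one, inv_one, mul_one]
    refine conj_mem_of_closed hp.closed₁ ?_ (QuotientGroup.out_conj_pow_minimalPeriod_mem P g q.out)
    simp only [Subgroup.coe_mul, Subgroup.coe_inv, SubmonoidClass.coe_pow]
    simpa using conj_mem_conjs (pow_mem_conjs hg (Function.minimalPeriod (g • ·) q.out))
      ((q.out.out : N) : G)⁻¹
  have hτ : ∀ g : N, τ g = 1 := by
    intro g
    obtain ⟨g, hg⟩ := g
    induction hg using closure_induction with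
    | mem y hy =>
      obtain ⟨b, hb, hby⟩ := Group.mem_conjugatesOfSet_iff.mp hy
      obtain ⟨k, rfl⟩ := isConj_iff.mp hby
      exact hgen _ (conj_mem_conjs (mem_conjs_self hb) k)
    | one => exact map_one τ
    | mul a b ha hb iha ihb =>
      rw [show (⟨a * b, mul_mem ha hb⟩ : N) = ⟨a, ha⟩ * ⟨b, hb⟩ from rfl, map_mul, iha, ihb, one_mul]
    | inv a ha iha =>
      rw [show (⟨a⁻¹, inv_mem ha⟩ : N) = (⟨a, ha⟩ : N)⁻¹ from rfl, map_inv, iha, inv_one]
  rw [eq_bot_iff]
  intro w hw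
  set ww : W := ⟨⟨w, hw.1⟩, hw⟩ with hww
  have key : ∀ (k : ℕ) (g₀ : N), g₀⁻¹ * (ww : N) ^ k * g₀ ∈ P →
      g₀⁻¹ * (ww : N) ^ k * g₀ = (ww : N) ^ k := by
    intro k g₀ _
    have hc : Commute (ww : N) g₀ := Subtype.ext (hcen w hw g₀ g₀.2)
    rw [mul_assoc, (hc.pow_left k).eq, inv_mul_cancel_left]
  have h1 := hτ (ww : N)
  open scoped IsMulCommutative in
  rw [show τ (ww : N) = MonoidHom.transfer φ (ww : N) from rfl,
    MonoidHom.transfer_eq_pow φ (ww : N) key] at h1
  have h2 : ww ^ P.index = 1 := by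
    rw [← h1]
    refine (huniq _ _ ?_).symm
    show ((((ww : W) : N) ^ P.index : N) : G) * ((((ww ^ P.index : W) : W) : N) : G)⁻¹ ∈ T₁
    simp
  have hodd : ¬ 2 ∣ P.index := by
    exact not_dvd_relIndex_normal S N
  obtain ⟨k, hk⟩ := IsPGroup.iff_orderOf.mp (S.isPGroup'.to_le hp.le₂) ⟨w, hw.2⟩
  rw [Subgroup.orderOf_mk] at hk
  have h3 : orderOf w ∣ P.index := orderOf_dvd_of_pow_eq_one (by
    simpa [hww] using congrArg (fun z : W => ((z : N) : G)) h2)
  rw [hk] at h3
  rcases Nat.eq_zero_or_pos k with rfl | hkpos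
  · rw [pow_zero, orderOf_eq_one_iff] at hk
    rw [hk]; exact one_mem _
  · exact absurd ((dvd_pow_self 2 hkpos.ne').trans h3) hodd

theorem normalClosure_inf_sylow (hp : Pair S T₁ T₂) (hO : Cfsg.oddCore G = ⊥)
    (htop : T₁ ⊔ T₂ = (S : Subgroup G)) : normalClosure (T₁ : Set G) ⊓ (S : Subgroup G) = T₁ := by
  refine le_antisymm (fun x hx => ?_) (le_inf (fun t ht => subset_normalClosure ht) hp.le₁)
  have hxS : x ∈ T₂ ⊔ T₁ := by rw [sup_comm, htop]; exact hx.2
  obtain ⟨b, hb, a, ha, hab⟩ := (Coprime.mem_sup_iff (H := T₁) (fun a ha => centralizer_le_normalizer _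
    (mem_centralizer_iff.mpr fun b hb => (hp.comm a ha b hb).symm))).mp hxS
  have hbN : b ∈ normalClosure (T₁ : Set G) ⊓ T₂ := by
    refine ⟨?_, hb⟩
    have := (normalClosure (T₁ : Set G)).mul_mem hx.1
      ((normalClosure (T₁ : Set G)).inv_mem (subset_normalClosure ha))
    rw [← hab] at this
    simpa using this
  rw [normalClosure_inf_eq_bot hp hO htop, mem_bot] at hbN
  rw [← hab, hbN, one_mul]
  exact ha

/-- The decomposition of `G`. -/
theorem exists_product (hp : Pair S T₁ T₂) (hO : Cfsg.oddCore G = ⊥)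
    (hO' : ∀ N : Subgroup G, N.Normal → Odd N.index → N = ⊤)
    (htop : T₁ ⊔ T₂ = (S : Subgroup G)) :
    Cfsg.IsInternalDirectProduct (normalClosure (T₁ : Set G)) (normalClosure (T₂ : Set G)) ⊤ ∧
      Odd (T₁.relIndex (normalClosure (T₁ : Set G))) ∧
      Odd (T₂.relIndex (normalClosure (T₂ : Set G))) := by
  haveI : Fact (Nat.Prime 2) := ⟨Nat.prime_two⟩
  set N₁ := normalClosure (T₁ : Set G) with hN₁
  set N₂ := normalClosure (T₂ : Set G) with hN₂
  have h1 := normalClosure_inf_sylow hp hO htop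
  have h2 := normalClosure_inf_sylow hp.symm hO (by rw [sup_comm]; exact htop)
  have hodd : ∀ (N : Subgroup G) [N.Normal], ¬ 2 ∣ (S : Subgroup G).relIndex N :=
    not_dvd_relIndex_normal S
  have hr : ∀ (T N : Subgroup G) [N.Normal], N ⊓ (S : Subgroup G) = T → Odd (T.relIndex N) := by
    intro T N _ e
    rw [← e, inf_comm, inf_relIndex_right]
    exact Nat.odd_iff.mpr (Nat.two_dvd_ne_zero.mp (hodd N))
  refine ⟨⟨le_top, le_top, fun a ha b hb =>
    (mem_centralizer_iff.mp (le_centralizer_closures hp hO ha) b hb).symm, ?_, ?_⟩, hr _ _ h1, hr _ _ h2⟩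
  · refine le_bot_iff.mp (hO ▸ Cores.le_oddCore ?_)
    have hbot : (N₁ ⊓ N₂) ⊓ (S : Subgroup G) = ⊥ := by
      rw [eq_bot_iff]
      rintro x ⟨⟨hx1, hx2⟩, hxS⟩
      have a1 : x ∈ T₁ := h1 ▸ (show x ∈ N₁ ⊓ (S : Subgroup G) from ⟨hx1, hxS⟩)
      have a2 : x ∈ T₂ := h2 ▸ (show x ∈ N₂ ⊓ (S : Subgroup G) from ⟨hx2, hxS⟩)
      exact mem_bot.mpr (hp.eq_one_of_mem a1 a2)
    have h := hodd (N₁ ⊓ N₂)
    rw [← inf_relIndex_right, inf_comm, hbot, relIndex_bot_left] at h
    exact Nat.odd_iff.mpr (Nat.two_dvd_ne_zero.mp h)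
  · refine hO' _ inferInstance ?_
    have hle : (S : Subgroup G) ≤ N₁ ⊔ N₂ := htop ▸ sup_le_sup
      (fun t ht => subset_normalClosure ht) (fun t ht => subset_normalClosure ht)
    refine Nat.odd_iff.mpr (Nat.two_dvd_ne_zero.mp fun hd => S.not_dvd_index (hd.trans ?_))
    exact Subgroup.index_dvd_of_le hle

end Cfsg.Agent.H52.Commuting
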