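import Mathlib
import Cfsg.Prelude.Def_TwoFusion
import Cfsg.Prelude.Def_CaseTheorems
import Cfsg.Agent.Cores.PCore
import Cfsg.Agent.H48.SylowIn

/-!
Two commuting, disjoint, strongly closed subgroups of a Sylow 2-subgroup: elementary facts about their
conjugates, and the passage to subgroups and quotients.
-/

set_option autoImplicit false
set_option linter.style.haveILetI false

namespace Cfsg.Agent.H52.Commuting

open Subgroup
open Cfsg.Agent
open scoped commutatorElement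

universe u

variable {G : Type u} [Group G]

/-- The union of the conjugates of `T`. -/
def Conjs (T : Subgroup G) : Set G := {x | ∃ g, ∃ t ∈ T, g * t * g⁻¹ = x}

/-- The data: two commuting, disjoint, strongly closed subgroups of `S`. -/
structure Pair (S : Sylow 2 G) (T₁ T₂ : Subgroup G) : Prop where
  closed₁ : Cfsg.IsStronglyClosed T₁ (S : Subgroup G)
  closed₂ : Cfsg.IsStronglyClosed T₂ (S : Subgroup G)
  comm : ∀ a ∈ T₁, ∀ b ∈ T₂, a * b = b * a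
  disj : T₁ ⊓ T₂ = ⊥

/-- Conjugates of the two subgroups commute modulo the odd core. -/
def CC (G : Type u) [Group G] : Prop :=
  ∀ (S : Sylow 2 G) (T₁ T₂ : Subgroup G), Pair S T₁ T₂ →
    ∀ x ∈ Conjs T₁, ∀ y ∈ Conjs T₂, ⁅x, y⁆ ∈ Cfsg.oddCore G

theorem Pair.symm {S : Sylow 2 G} {T₁ T₂ : Subgroup G} (h : Pair S T₁ T₂) : Pair S T₂ T₁ :=
  ⟨h.closed₂, h.closed₁, fun a ha b hb => (h.comm b hb a ha).symm, by rw [inf_comm]; exact h.disj⟩

theorem mem_conjs_self {T : Subgroup G} {t : G} (ht : t ∈ T) : t ∈ Conjs T :=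
  ⟨1, t, ht, by simp⟩

theorem one_mem_conjs (T : Subgroup G) : (1 : G) ∈ Conjs T := mem_conjs_self T.one_mem

theorem conj_mem_conjs {T : Subgroup G} {x : G} (hx : x ∈ Conjs T) (g : G) :
    g * x * g⁻¹ ∈ Conjs T := by
  obtain ⟨k, t, ht, rfl⟩ := hx
  exact ⟨g * k, t, ht, by group⟩

theorem pow_mem_conjs {T : Subgroup G} {x : G} (hx : x ∈ Conjs T) (n : ℕ) : x ^ n ∈ Conjs T := by
  obtain ⟨k, t, ht, rfl⟩ := hx
  exact ⟨k, t ^ n, T.pow_mem ht n, by rw [conj_pow]⟩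

theorem inv_mem_conjs {T : Subgroup G} {x : G} (hx : x ∈ Conjs T) : x⁻¹ ∈ Conjs T := by
  obtain ⟨k, t, ht, rfl⟩ := hx
  exact ⟨k, t⁻¹, T.inv_mem ht, by group⟩

theorem conjs_subset_of_le {T N : Subgroup G} [N.Normal] (h : T ≤ N) : Conjs T ⊆ (N : Set G) := by
  rintro _ ⟨g, t, ht, rfl⟩
  exact (inferInstance : N.Normal).conj_mem t (h ht) g

theorem isPGroup_zpowers_conjs {S : Sylow 2 G} {T : Subgroup G} (hT : T ≤ (S : Subgroup G))
    {x : G} (hx : x ∈ Conjs T) : IsPGroup 2 (zpowers x) := by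
  obtain ⟨k, t, ht, rfl⟩ := hx
  exact (H48.isPGroup_cj (g := k) (S.isPGroup'.to_le hT)).to_le
    (zpowers_le.mpr (H48.conj_mem_cj ht))

/-- `zpowers` of two commuting elements of 2-groups generate a 2-group. -/
theorem isPGroup_pair {x y : G} (hx : IsPGroup 2 (zpowers x)) (hy : IsPGroup 2 (zpowers y))
    (hxy : x * y = y * x) : IsPGroup 2 (zpowers x ⊔ zpowers y : Subgroup G) :=
  hx.to_sup_of_normal_left' hy <| zpowers_le.mpr <| centralizer_le_normalizer _ fun b hb => by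
    obtain ⟨j, rfl⟩ := mem_zpowers_iff.mp hb
    exact (Commute.zpow_left (show Commute x y from hxy) j).eq

variable [Finite G]

theorem exists_cover (S : Sylow 2 G) {P : Subgroup G} (hP : IsPGroup 2 P) :
    ∃ h : G, P ≤ H48.cj h (S : Subgroup G) := by
  haveI : Fact (Nat.Prime 2) := ⟨Nat.prime_two⟩
  obtain ⟨Q, hQ⟩ := hP.exists_le_sylow
  obtain ⟨h, rfl⟩ := MulAction.exists_smul_eq G S Q
  exact ⟨h, fun x hx => hQ hx⟩

omit [Finite G] in
theorem mem_cj_of_mem_conjs {S : Sylow 2 G} {T : Subgroup G}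
    (hT : Cfsg.IsStronglyClosed T (S : Subgroup G)) {x h : G} (hx : x ∈ Conjs T)
    (hxS : x ∈ H48.cj h (S : Subgroup G)) : x ∈ H48.cj h T := by
  obtain ⟨k, t, ht, rfl⟩ := hx
  rw [H48.mem_cj] at hxS ⊢
  have e : h⁻¹ * (k * t * k⁻¹) * h = (h⁻¹ * k) * t * (h⁻¹ * k)⁻¹ := by group
  rw [e] at hxS ⊢
  exact hT.2 t ht _ hxS

variable {S : Sylow 2 G} {T₁ T₂ : Subgroup G}

omit [Finite G] in
theorem Pair.le₁ (hp : Pair S T₁ T₂) : T₁ ≤ (S : Subgroup G) := hp.closed₁.1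

omit [Finite G] in
theorem Pair.le₂ (hp : Pair S T₁ T₂) : T₂ ≤ (S : Subgroup G) := hp.closed₂.1

omit [Finite G] in
theorem Pair.eq_one_of_mem (hp : Pair S T₁ T₂) {a : G} (h₁ : a ∈ T₁) (h₂ : a ∈ T₂) : a = 1 := by
  have h : a ∈ T₁ ⊓ T₂ := ⟨h₁, h₂⟩
  rwa [hp.disj, mem_bot] at h

omit [Finite G] in
theorem Pair.commute_of_cj (hp : Pair S T₁ T₂) {x y h : G} (hx : x ∈ H48.cj h T₁)
    (hy : y ∈ H48.cj h T₂) : x * y = y * x := by
  obtain ⟨a, ha, rfl⟩ := hx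
  obtain ⟨b, hb, rfl⟩ := hy
  exact ((show Commute a b from hp.comm a ha b hb).map (MulAut.conj h).toMonoidHom).eq

/-- Conjugates of `T₁`, `T₂` lying in a common 2-subgroup commute. -/
theorem Pair.commute_of_pgroup (hp : Pair S T₁ T₂) {P : Subgroup G} (hP : IsPGroup 2 P) {x y : G}
    (hx : x ∈ Conjs T₁) (hy : y ∈ Conjs T₂) (hxP : x ∈ P) (hyP : y ∈ P) : x * y = y * x := by
  obtain ⟨h, hh⟩ := exists_cover S hP
  exact hp.commute_of_cj (mem_cj_of_mem_conjs hp.closed₁ hx (hh hxP))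
    (mem_cj_of_mem_conjs hp.closed₂ hy (hh hyP))

theorem Pair.eq_one (hp : Pair S T₁ T₂) {x : G} (h₁ : x ∈ Conjs T₁) (h₂ : x ∈ Conjs T₂) :
    x = 1 := by
  obtain ⟨h, hh⟩ := exists_cover S (isPGroup_zpowers_conjs hp.le₁ h₁)
  have h1 := mem_cj_of_mem_conjs hp.closed₁ h₁ (hh (mem_zpowers x))
  have h2 := mem_cj_of_mem_conjs hp.closed₂ h₂ (hh (mem_zpowers x))
  rw [H48.mem_cj] at h1 h2
  have := hp.eq_one_of_mem h1 h2
  calc x = h * (h⁻¹ * x * h) * h⁻¹ := by group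
    _ = 1 := by rw [this]; group

omit [Finite G] in
theorem mem_conjs_of_mem_cj {T : Subgroup G} {x h : G} (hx : x ∈ H48.cj h T) : x ∈ Conjs T :=
  ⟨h, h⁻¹ * x * h, H48.mem_cj.mp hx, by group⟩

/-- The product of two elements of `Conjs T` in a common 2-subgroup lies in `Conjs T`. -/
theorem mul_mem_conjs_of_pgroup {T : Subgroup G} (hT : Cfsg.IsStronglyClosed T (S : Subgroup G))
    {P : Subgroup G} (hP : IsPGroup 2 P) {x y : G} (hx : x ∈ Conjs T) (hy : y ∈ Conjs T)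
    (hxP : x ∈ P) (hyP : y ∈ P) : x * y ∈ Conjs T := by
  obtain ⟨h, hh⟩ := exists_cover S hP
  exact mem_conjs_of_mem_cj (mul_mem (mem_cj_of_mem_conjs hT hx (hh hxP))
    (mem_cj_of_mem_conjs hT hy (hh hyP)))

theorem mul_mem_conjs {T : Subgroup G} (hT : Cfsg.IsStronglyClosed T (S : Subgroup G)) {x y : G}
    (hx : x ∈ Conjs T) (hy : y ∈ Conjs T) (hxy : x * y = y * x) : x * y ∈ Conjs T :=
  mul_mem_conjs_of_pgroup hT
    (isPGroup_pair (isPGroup_zpowers_conjs hT.1 hx) (isPGroup_zpowers_conjs hT.1 hy) hxy) hx hy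
    (mem_sup_left (mem_zpowers x)) (mem_sup_right (mem_zpowers y))

/-! ### Subgroups -/

/-- What `CC H` says about conjugates lying in the subgroup `H`. -/
theorem Pair.commutator_mem_of_subgroup (hp : Pair S T₁ T₂) {H : Subgroup G} (hH : CC H) {x y : G}
    (hx : x ∈ Conjs T₁) (hy : y ∈ Conjs T₂) (hxH : x ∈ H) (hyH : y ∈ H) :
    ⁅x, y⁆ ∈ (Cfsg.oddCore H).map H.subtype := by
  haveI : Fact (Nat.Prime 2) := ⟨Nat.prime_two⟩
  obtain ⟨R⟩ : Nonempty (Sylow 2 H) := inferInstance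
  obtain ⟨h, hh⟩ := exists_cover S (R.isPGroup'.map H.subtype)
  have hRS : ∀ r ∈ (R : Subgroup H), (r : G) ∈ H48.cj h (S : Subgroup G) :=
    fun r hr => hh ⟨r, hr, rfl⟩
  set U₁ := (R : Subgroup H) ⊓ (H48.cj h T₁).subgroupOf H with hU₁
  set U₂ := (R : Subgroup H) ⊓ (H48.cj h T₂).subgroupOf H with hU₂
  have hclo : ∀ T : Subgroup G, Cfsg.IsStronglyClosed T (S : Subgroup G) →
      Cfsg.IsStronglyClosed ((R : Subgroup H) ⊓ (H48.cj h T).subgroupOf H) (R : Subgroup H) := by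
    refine fun T hT => ⟨inf_le_left, fun r hr k hk => ⟨hk, ?_⟩⟩
    have h1 : ((k * r * k⁻¹ : H) : G) ∈ Conjs T := by
      simp only [Subgroup.coe_mul, Subgroup.coe_inv]
      exact conj_mem_conjs (mem_conjs_of_mem_cj hr.2) _
    exact mem_cj_of_mem_conjs hT h1 (hRS _ hk)
  have hpair : Pair R U₁ U₂ := by
    refine ⟨hclo T₁ hp.closed₁, hclo T₂ hp.closed₂, fun a ha b hb =>
      Subtype.ext (hp.commute_of_cj ha.2 hb.2), eq_bot_iff.mpr fun a ha => ?_⟩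
    exact mem_bot.mpr (Subtype.ext
      (hp.eq_one (mem_conjs_of_mem_cj ha.1.2) (mem_conjs_of_mem_cj ha.2.2)))
  have hlift : ∀ T : Subgroup G, Cfsg.IsStronglyClosed T (S : Subgroup G) → ∀ z (hz : z ∈ H),
      z ∈ Conjs T → (⟨z, hz⟩ : H) ∈ Conjs ((R : Subgroup H) ⊓ (H48.cj h T).subgroupOf H) := by
    intro T hT z hz hzT
    have hp2 : IsPGroup 2 (zpowers (⟨z, hz⟩ : H)) := by
      refine (isPGroup_zpowers_conjs hT.1 hzT).comap_subtype.to_le (K := (zpowers z).subgroupOf H)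
        (zpowers_le.mpr (mem_subgroupOf.mpr (mem_zpowers z)))
    obtain ⟨Q, hQ⟩ := hp2.exists_le_sylow
    obtain ⟨k, hk⟩ := MulAction.exists_smul_eq H Q R
    have h1 : k * ⟨z, hz⟩ * k⁻¹ ∈ (R : Subgroup H) := by
      rw [← hk]
      exact ⟨_, hQ (mem_zpowers _), rfl⟩
    refine ⟨k⁻¹, k * ⟨z, hz⟩ * k⁻¹, ⟨h1, ?_⟩, by group⟩
    refine mem_cj_of_mem_conjs hT ?_ (hRS _ h1)
    exact conj_mem_conjs hzT _
  exact ⟨⁅(⟨x, hxH⟩ : H), (⟨y, hyH⟩ : H)⁆, hH R U₁ U₂ hpair _ (hlift T₁ hp.closed₁ x hxH hx) _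
    (hlift T₂ hp.closed₂ y hyH hy), by simp [commutatorElement_def]⟩

/-! ### Quotients -/

omit [Finite G] in
theorem mk_mem_conjs {N T : Subgroup G} [N.Normal] {x : G} (hx : x ∈ Conjs T) :
    QuotientGroup.mk' N x ∈ Conjs (T.map (QuotientGroup.mk' N)) := by
  obtain ⟨g, t, ht, rfl⟩ := hx
  exact ⟨QuotientGroup.mk' N g, QuotientGroup.mk' N t, ⟨t, ht, rfl⟩, by simp⟩

/-- The image of a strongly closed subgroup is strongly closed. -/
theorem closed_quotient {T : Subgroup G} (hT : Cfsg.IsStronglyClosed T (S : Subgroup G))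
    (N : Subgroup G) [N.Normal] :
    Cfsg.IsStronglyClosed (T.map (QuotientGroup.mk' N))
      ((S : Subgroup G).map (QuotientGroup.mk' N)) := by
  haveI : Fact (Nat.Prime 2) := ⟨Nat.prime_two⟩
  refine ⟨Subgroup.map_mono hT.1, ?_⟩
  rintro _ ⟨t, ht, rfl⟩ q hq
  obtain ⟨g, rfl⟩ := QuotientGroup.mk'_surjective N q
  set y := g * t * g⁻¹ with hy
  have hyX : y ∈ Conjs T := ⟨g, t, ht, rfl⟩
  have hyM : y ∈ (S : Subgroup G) ⊔ N := by
    have h1 : y ∈ ((S : Subgroup G).map (QuotientGroup.mk' N)).comap (QuotientGroup.mk' N) := by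
      rw [Subgroup.mem_comap, hy, map_mul, map_mul, map_inv]
      exact hq
    rwa [comap_map_eq, QuotientGroup.ker_mk'] at h1
  set M := (S : Subgroup G) ⊔ N with hM
  have hS : H48.IsSylowIn 2 (S : Subgroup G) M := ⟨le_sup_left, S.isPGroup', fun hd => S.not_dvd_index
    (hd.trans (Dvd.intro _ (relIndex_mul_index (le_sup_left : (S : Subgroup G) ≤ M))))⟩
  obtain ⟨k, hkM, hk⟩ := hS.exists_cj_le (isPGroup_zpowers_conjs hT.1 hyX) (zpowers_le.mpr hyM)
  rw [hM, sup_comm] at hkM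
  obtain ⟨n, hn, s, hs, rfl⟩ :=
    (Coprime.mem_sup_iff (H := (S : Subgroup G)) (N := N) (by simp [normalizer_eq_top])).mp hkM
  have h1 : (n * s) * y * (n * s)⁻¹ ∈ T := by
    have h2 := mem_cj_of_mem_conjs hT (conj_mem_conjs hyX (n * s)) (h := 1)
      (by rw [H48.cj_one]; exact hk (H48.conj_mem_cj (mem_zpowers y)))
    rwa [H48.cj_one] at h2
  set t' := (n * s) * y * (n * s)⁻¹ with ht'
  have h3 : s⁻¹ * t' * s ∈ T := by
    have := hT.2 t' h1 s⁻¹ (by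
      simpa using (S : Subgroup G).mul_mem
        ((S : Subgroup G).mul_mem ((S : Subgroup G).inv_mem hs) (hT.1 h1)) hs)
    simpa using this
  refine ⟨s⁻¹ * t' * s, h3, ?_⟩
  have hn1 : QuotientGroup.mk' N n = 1 := (QuotientGroup.eq_one_iff n).mpr hn
  simp only [ht', hy, map_mul, map_inv, hn1]
  group

theorem Pair.quotient (hp : Pair S T₁ T₂) (N : Subgroup G) [N.Normal]
    (hN : Odd (Nat.card N) ∨ N ≤ T₂) :
    Pair (S.mapSurjective (QuotientGroup.mk'_surjective N))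
      (T₁.map (QuotientGroup.mk' N)) (T₂.map (QuotientGroup.mk' N)) := by
  haveI : Fact (Nat.Prime 2) := ⟨Nat.prime_two⟩
  refine ⟨closed_quotient hp.closed₁ N, closed_quotient hp.closed₂ N, ?_, eq_bot_iff.mpr ?_⟩
  · rintro _ ⟨a, ha, rfl⟩ _ ⟨b, hb, rfl⟩
    rw [← map_mul, ← map_mul, hp.comm a ha b hb]
  · rintro _ ⟨⟨a, ha, rfl⟩, ⟨b, hb, hab⟩⟩
    have hm : b⁻¹ * a ∈ N := QuotientGroup.eq.mp hab
    rw [mem_bot]
    refine (QuotientGroup.eq_one_iff a).mpr ?_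
    rcases hN with hodd | hle
    · have hbot : (S : Subgroup G) ⊓ N = ⊥ :=
        Cores.disjoint_of_isPGroup_of_coprime S.isPGroup' (Nat.coprime_two_right.mpr hodd)
      have h1 : b⁻¹ * a ∈ (S : Subgroup G) ⊓ N :=
        ⟨(S : Subgroup G).mul_mem ((S : Subgroup G).inv_mem (hp.le₂ hb)) (hp.le₁ ha), hm⟩
      rw [hbot, mem_bot, inv_mul_eq_one] at h1
      subst h1
      rw [hp.eq_one_of_mem ha hb]
      exact N.one_mem
    · have h2 : a ∈ T₂ := by simpa using T₂.mul_mem hb (hle hm)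
      rw [hp.eq_one_of_mem ha h2]
      exact N.one_mem

end Cfsg.Agent.H52.Commuting
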