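import Mathlib
import Cfsg.Agent.Coprime.Action
import Cfsg.Agent.Coprime.Abelian
import Cfsg.Agent.Coprime.Commutator
import Cfsg.Agent.Coprime.Generation
import Cfsg.Agent.H48.SylowIn

/-!
A four group `V` acting on a solvable group `Q` of odd order: if the fixed points of each
`[C_Q(v), V]` lie in a subgroup `W₀` of `C_Q(V)` normal there, so do the fixed points of `[Q, V]`.
-/

set_option autoImplicit false
set_option linter.style.haveILetI false

namespace Cfsg.Agent.H52.Commuting

open Subgroup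
open Cfsg.Agent
open scoped commutatorElement

variable {G : Type*} [Group G]

/-- `V` is a four group. -/
structure IsFour (V : Subgroup G) : Prop where
  card : Nat.card V = 4
  sq : ∀ v ∈ V, v * v = 1

namespace IsFour

variable {V : Subgroup G} (hV : IsFour V)

include hV

theorem inv_eq {v : G} (hv : v ∈ V) : v⁻¹ = v := inv_eq_of_mul_eq_one_right (hV.sq v hv)

theorem comm {v w : G} (hv : v ∈ V) (hw : w ∈ V) : v * w = w * v := by
  have h := hV.inv_eq (mul_mem hv hw)
  rw [mul_inv_rev, hV.inv_eq hv, hV.inv_eq hw] at h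
  exact h.symm

theorem isMulCommutative : IsMulCommutative V :=
  ⟨⟨fun a b => Subtype.ext (hV.comm a.2 b.2)⟩⟩

theorem isSolvable : Group.IsSolvable V := by
  haveI := hV.isMulCommutative
  exact Coprime.isSolvable_of_isMulCommutative

theorem isPGroup : IsPGroup 2 V := IsPGroup.of_card (n := 2) (by rw [hV.card]; norm_num)

theorem coprime {Q : Subgroup G} (hQ : Odd (Nat.card Q)) : (Nat.card V).Coprime (Nat.card Q) := by
  rw [hV.card, show 4 = 2 ^ 2 from rfl]
  exact ((Nat.coprime_two_left).mpr hQ).pow_left 2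

theorem not_isCyclic : ¬ IsCyclic V := by
  intro h
  obtain ⟨g, hg⟩ := IsCyclic.exists_ofOrder_eq_natCard (α := V)
  rw [hV.card] at hg
  have h2 : g ^ 2 = 1 := Subtype.ext (by rw [pow_two]; exact hV.sq g g.2)
  have := Nat.le_of_dvd two_pos (orderOf_dvd_of_pow_eq_one h2)
  omega

theorem eq_or [Finite G] {v w x : G} (hv : v ∈ V) (hv1 : v ≠ 1) (hw : w ∈ V) (hw1 : w ≠ 1)
    (hvw : w ≠ v) (hx : x ∈ V) : x = 1 ∨ x = v ∨ x = w ∨ x = v * w := by
  classical
  have hvw1 : v * w ≠ 1 := fun h => hvw (by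
    rw [← hV.inv_eq hv]; exact (inv_eq_of_mul_eq_one_right h).symm)
  haveI := Fintype.ofFinite V
  have huniv : ({⟨1, one_mem V⟩, ⟨v, hv⟩, ⟨w, hw⟩, ⟨v * w, mul_mem hv hw⟩} : Finset V) =
      Finset.univ := by
    refine Finset.eq_univ_of_card _ ?_
    rw [← Nat.card_eq_fintype_card, hV.card]
    have a1 : v * w ≠ v := fun h => hw1 (mul_eq_left.mp h)
    have a2 : v * w ≠ w := fun h => hv1 (mul_eq_right.mp h)
    rw [Finset.card_insert_of_notMem, Finset.card_insert_of_notMem, Finset.card_insert_of_notMem,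
      Finset.card_singleton] <;>
      simp [Subtype.ext_iff, hv1.symm, hw1.symm, hvw.symm, hvw1.symm, a1.symm, a2.symm]
  have := (Finset.ext_iff.mp huniv ⟨x, hx⟩).mpr (Finset.mem_univ _)
  simpa [Subtype.ext_iff] using this

/-- A second nontrivial element. -/
theorem exists_other [Finite G] (v : G) : ∃ w ∈ V, w ≠ 1 ∧ w ≠ v := by
  classical
  by_contra h
  push Not at h
  haveI := Fintype.ofFinite V
  have hle : (V : Set G) ⊆ {1, v} := fun x hx => by
    by_cases h1 : x = 1
    · exact Or.inl h1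
    · exact Or.inr (h x hx h1)
  have h4 : Nat.card (V : Set G) ≤ 2 := by
    refine (Nat.card_mono (Set.toFinite _) hle).trans ?_
    rw [Nat.card_coe_set_eq]
    exact (Set.ncard_insert_le _ _).trans (by rw [Set.ncard_singleton])
  have : Nat.card (V : Set G) = 4 := hV.card
  omega

end IsFour

/-- The iterated commutators of `Q`, inside `G`. -/
def derived (Q : Subgroup G) : ℕ → Subgroup G
  | 0 => Q
  | k + 1 => ⁅derived Q k, derived Q k⁆

theorem derived_eq_map (Q : Subgroup G) :
    ∀ k, derived Q k = (derivedSeries Q k).map Q.subtype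
  | 0 => by
    show Q = _
    rw [derivedSeries_zero, ← MonoidHom.range_eq_map, range_subtype]
  | k + 1 => by
    show ⁅derived Q k, derived Q k⁆ = _
    rw [derivedSeries_succ, map_commutator, ← derived_eq_map Q k]

theorem mem_normalizer_derived {Q : Subgroup G} {g : G} (hg : g ∈ normalizer (Q : Set G)) :
    ∀ k, g ∈ normalizer (derived Q k : Set G)
  | 0 => hg
  | k + 1 => Coprime.mem_normalizer_commutator (mem_normalizer_derived hg k)
      (mem_normalizer_derived hg k)

theorem derived_le {Q : Subgroup G} : ∀ k, derived Q k ≤ Q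
  | 0 => le_rfl
  | k + 1 => (commutator_le_self _).trans (derived_le k)

theorem commutator_mem_of_mem {H : Subgroup G} {a b : G} (ha : a ∈ H) (hb : b ∈ H) : ⁅a, b⁆ ∈ H := by
  rw [commutatorElement_def]
  exact mul_mem (mul_mem (mul_mem ha hb) (inv_mem ha)) (inv_mem hb)

/-- An element normalizing both factors normalizes the join. -/
theorem mem_normalizer_sup [Finite G] {A B : Subgroup G} {g : G} (hA : g ∈ normalizer (A : Set G))
    (hB : g ∈ normalizer (B : Set G)) : g ∈ normalizer ((A ⊔ B : Subgroup G) : Set G) := by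
  apply Coprime.mem_normalizer_of_map_conj
  rw [Subgroup.map_sup, Coprime.map_conj_eq hA, Coprime.map_conj_eq hB]

theorem mem_normalizer_inf [Finite G] {A B : Subgroup G} {g : G} (hA : g ∈ normalizer (A : Set G))
    (hB : g ∈ normalizer (B : Set G)) : g ∈ normalizer ((A ⊓ B : Subgroup G) : Set G) := by
  apply Coprime.mem_normalizer_of_map_conj
  rw [Subgroup.map_inf _ _ _ (MulAut.conj g).injective, Coprime.map_conj_eq hA,
    Coprime.map_conj_eq hB]

/-- `A ⊔ N` is abelian modulo `N` when `A` is. -/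
theorem sup_le_relCentralizer {A N : Subgroup G} (hA : A ≤ normalizer (N : Set G))
    (h : ⁅A, A⁆ ≤ N) : A ⊔ N ≤ Coprime.relCentralizer N (A ⊔ N) := by
  have h0 : A ⊔ N ≤ Coprime.relCentralizer N A := by
    refine sup_le (fun a ha => ⟨hA ha, fun b hb => h (commutator_mem_commutator ha hb)⟩)
      fun n hn => ⟨le_normalizer hn, fun b hb => ?_⟩
    rw [commutatorElement_def]
    have := mul_mem hn (Coprime.conj_mem (hA hb) (inv_mem hn))
    simpa [mul_assoc] using this
  have hN : A ⊔ N ≤ normalizer (N : Set G) := sup_le hA le_normalizer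
  refine fun x hx => ⟨hN hx, fun y hy => ?_⟩
  have h1 : A ≤ Coprime.relCentralizer N (zpowers x) := fun a ha => ⟨hA ha, fun z hz => by
    have := inv_mem ((h0 ((zpowers_le.mpr hx) hz)).2 a ha)
    rwa [commutatorElement_inv] at this⟩
  have h2 : N ≤ Coprime.relCentralizer N (zpowers x) := fun n hn => ⟨le_normalizer hn, fun z hz => by
    rw [commutatorElement_def]
    have := mul_mem hn (Coprime.conj_mem (hN ((zpowers_le.mpr hx) hz)) (inv_mem hn))
    simpa [mul_assoc] using this⟩
  have := inv_mem ((sup_le h1 h2 hy).2 x (mem_zpowers x))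
  rwa [commutatorElement_inv] at this

variable [Finite G]

/-- Abelian modulo `N`: the fixed points of `[D, V] N` lie in `N`. -/
theorem fixed_mem_of_abelian {V D N : Subgroup G} (hV : IsFour V) (hodd : Odd (Nat.card D))
    (hDV : V ≤ normalizer (D : Set G)) (hNV : V ≤ normalizer (N : Set G))
    (hDN : D ≤ normalizer (N : Set G)) (hab : D ≤ Coprime.relCentralizer N D)
    {c : G} (hc : c ∈ ⁅D, V⁆ ⊔ N) (hcV : c ∈ centralizer (V : Set G)) : c ∈ N := by
  set L := normalizer (N : Set G) with hL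
  haveI : (N.subgroupOf L).Normal := normal_subgroupOf_of_le_normalizer le_rfl
  set f := QuotientGroup.mk' (N.subgroupOf L) with hf
  set D' := (D.subgroupOf L).map f with hD'
  set V' := (V.subgroupOf L).map f with hV'
  haveI : IsMulCommutative D' := by
    refine ⟨⟨?_⟩⟩
    rintro ⟨_, ⟨a, ha, rfl⟩⟩ ⟨_, ⟨b, hb, rfl⟩⟩
    refine Subtype.ext (commutatorElement_eq_one_iff_mul_comm.mp ?_)
    rw [← map_commutatorElement]
    exact (QuotientGroup.eq_one_iff _).mpr (by
      show ((⁅a, b⁆ : L) : G) ∈ N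
      simpa [commutatorElement_def] using (hab ha).2 (b : G) hb)
  have hDV' : V' ≤ normalizer (D' : Set (L ⧸ N.subgroupOf L)) := by
    rintro _ ⟨a, ha, rfl⟩
    apply Coprime.mem_normalizer_of_map_conj
    refine H48.eq_of_le_of_card_le ?_ (Coprime.card_map_conj _ _).ge
    rintro _ ⟨_, ⟨d, hd, rfl⟩, rfl⟩
    refine ⟨a * d * a⁻¹, ?_, by simp⟩
    show ((a * d * a⁻¹ : L) : G) ∈ D
    simpa using Coprime.conj_mem (hDV ha) hd
  have hcardV : Nat.card V' ∣ Nat.card V := by
    refine (Subgroup.card_map_dvd _ _).trans ?_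
    rw [Nat.card_congr (subgroupOfEquivOfLe hNV).toEquiv]
  have hcardD : Nat.card D' ∣ Nat.card D := by
    refine (Subgroup.card_map_dvd _ _).trans ?_
    rw [Nat.card_congr (subgroupOfEquivOfLe hDN).toEquiv]
  have hcop : (Nat.card V').Coprime (Nat.card D') :=
    ((hV.coprime hodd).coprime_dvd_left hcardV).coprime_dvd_right hcardD
  have hdv : ⁅D, V⁆ ≤ normalizer (N : Set G) :=
    commutator_le.mpr fun a ha b hb => commutator_mem_of_mem (hDN ha) (hNV hb)
  rw [sup_comm] at hc
  obtain ⟨n, hn, m, hm, rfl⟩ := (Coprime.mem_sup_iff hdv).mp hc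
  have hcL : n * m ∈ L := mul_mem (le_normalizer hn) (hdv hm)
  have e1 : f ⟨n * m, hcL⟩ = f ⟨m, hdv hm⟩ := by
    rw [show (⟨n * m, hcL⟩ : L) = ⟨n, le_normalizer hn⟩ * ⟨m, hdv hm⟩ from rfl, map_mul]
    rw [(QuotientGroup.eq_one_iff (⟨n, le_normalizer hn⟩ : L)).mpr hn |> fun e =>
      (show f ⟨n, le_normalizer hn⟩ = 1 from e), one_mul]
  have h1 : f ⟨n * m, hcL⟩ ∈ ⁅D', V'⁆ := by
    rw [e1, hD', hV', ← map_commutator]
    refine mem_map_of_mem f ?_
    have e : (⁅D.subgroupOf L, V.subgroupOf L⁆).map L.subtype = ⁅D, V⁆ := by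
      rw [map_commutator, map_subgroupOf_eq_of_le hDN, map_subgroupOf_eq_of_le hNV]
    rw [← e] at hm
    obtain ⟨m', hm', e'⟩ := hm
    rwa [show (⟨m, hdv (by rw [← e]; exact ⟨m', hm', e'⟩)⟩ : L) = m' from Subtype.ext e'.symm]
  have h2 : f ⟨n * m, hcL⟩ ∈ D' ⊓ centralizer (V' : Set (L ⧸ N.subgroupOf L)) := by
    refine ⟨(Coprime.commutator_le_left_of_normalizer hDV') h1, mem_centralizer_iff.mpr ?_⟩
    rintro _ ⟨a, ha, rfl⟩
    rw [← map_mul, ← map_mul]
    congr 1
    exact Subtype.ext (mem_centralizer_iff.mp hcV (a : G) ha)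
  have h3 : f ⟨n * m, hcL⟩ ∈ (D' ⊓ centralizer (V' : Set (L ⧸ N.subgroupOf L))) ⊓ ⁅D', V'⁆ :=
    ⟨h2, h1⟩
  rw [(Coprime.abelian_decomposition hDV' hcop).1, mem_bot] at h3
  exact (QuotientGroup.eq_one_iff (⟨n * m, hcL⟩ : L)).mp h3

/-- The main step: `Q = [Q, V]`, and a normal `V`-invariant subgroup `N`. -/
theorem fixed_le_sup {V Q W₀ : Subgroup G} (hV : IsFour V) (hQ : Odd (Nat.card Q))
    (hsol : Group.IsSolvable Q) (hVQ : V ≤ normalizer (Q : Set G)) (hQV : ⁅Q, V⁆ = Q)
    (hW₀ : W₀ ≤ Q ⊓ centralizer (V : Set G))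
    (hnorm : Q ⊓ centralizer (V : Set G) ≤ normalizer (W₀ : Set G))
    (hW : ∀ v ∈ V, v ≠ 1 → ⁅Q ⊓ centralizer {v}, V⁆ ⊓ centralizer (V : Set G) ≤ W₀) :
    ∀ (n : ℕ) (N : Subgroup G), Nat.card Q - Nat.card N ≤ n → N ≤ Q →
      Q ≤ normalizer (N : Set G) → V ≤ normalizer (N : Set G) →
      Q ⊓ centralizer (V : Set G) ≤ W₀ ⊔ N := by
  intro n
  induction n with
  | zero =>
    intro N hn hNQ _ _
    have : N = Q := H48.eq_of_le_of_card_le hNQ (by omega)
    exact inf_le_left.trans (this ▸ le_sup_right)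
  | succ n ih =>
  intro N hn hNQ hQN hVN
  by_cases hNQ' : N = Q
  · exact inf_le_left.trans (hNQ' ▸ le_sup_right)
  have hIH : ∀ M : Subgroup G, N < M → M ≤ Q → Q ≤ normalizer (M : Set G) →
      V ≤ normalizer (M : Set G) → Q ⊓ centralizer (V : Set G) ≤ W₀ ⊔ M := by
    intro M hlt hMQ
    refine ih M ?_ hMQ
    have h1 : Nat.card N < Nat.card M := by
      refine lt_of_le_of_ne (Subgroup.card_le_of_le hlt.le) fun h => ?_
      exact hlt.ne (H48.eq_of_le_of_card_le hlt.le h.ge)
    have := Subgroup.card_le_of_le hMQ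
    omega
  have hCQ : ∀ v ∈ V, V ≤ normalizer ((Q ⊓ centralizer {v} : Subgroup G) : Set G) := by
    intro v hv w hw
    refine mem_normalizer_inf (hVQ hw) (le_normalizer ?_)
    exact mem_centralizer_singleton_iff.mpr (hV.comm hw hv)
  have hgen : ∀ M : Subgroup G, (∀ v ∈ V, v ≠ 1 → ⁅Q ⊓ centralizer {v}, V⁆ ≤ M) →
      Q ⊓ centralizer (V : Set G) ≤ M → Q ≤ M := by
    intro M h1 h2
    haveI := hV.isMulCommutative
    refine Coprime.le_of_centralizer_noncyclic_le hV.not_isCyclic hVQ (hV.coprime hQ) fun v hv hv1 => ?_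
    rw [← Coprime.commutator_sup_centralizer (hCQ v hv)
      ((hV.coprime hQ).coprime_dvd_right (Subgroup.card_dvd_of_le inf_le_left)) (Or.inl hV.isSolvable)]
    exact sup_le (h1 v hv hv1) ((inf_le_inf_right _ inf_le_left).trans h2)
  set A := fun k => derived Q k ⊔ N with hA
  have hAle : ∀ k, A k ≤ Q := fun k => sup_le (derived_le k) hNQ
  have hAN : ∀ k, Q ≤ normalizer (A k : Set G) := fun k g hg =>
    mem_normalizer_sup (mem_normalizer_derived (le_normalizer hg) k) (hQN hg)
  have hAV : ∀ k, V ≤ normalizer (A k : Set G) := fun k g hg =>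
    mem_normalizer_sup (mem_normalizer_derived (hVQ hg) k) (hVN hg)
  obtain ⟨m, hm⟩ := hsol.solvable
  classical
  have hex : ∃ k, A k = N := ⟨m, by simp [hA, derived_eq_map, hm]⟩
  set k₀ := Nat.find hex with hk₀
  have hk₀0 : k₀ ≠ 0 := fun h => hNQ' (by
    have e := Nat.find_spec hex
    rw [← hk₀, h] at e
    rw [← e]
    exact le_antisymm (sup_le le_rfl hNQ) le_sup_left)
  obtain ⟨k, hk⟩ := Nat.exists_eq_succ_of_ne_zero hk₀0
  have hDsucc : A (k + 1) = N := by
    have := Nat.find_spec hex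
    rwa [← hk₀, hk] at this
  have hDne : A k ≠ N := fun h => by
    have := Nat.find_min hex (m := k) (by omega)
    exact this h
  set D := A k with hD
  have hND : N ≤ D := le_sup_right
  have hDQ : D ≤ Q := hAle k
  have hDab : D ≤ Coprime.relCentralizer N D :=
    sup_le_relCentralizer ((derived_le k).trans hQN) (hDsucc ▸ le_sup_left)
  have hDodd : Odd (Nat.card D) := hQ.of_dvd_nat (Subgroup.card_dvd_of_le hDQ)
  set S := (D ⊓ W₀) ⊔ N ⊔ ⁅D, V⁆ with hS
  have hWV : ∀ v ∈ V, v ∈ normalizer (W₀ : Set G) := by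
    intro v hv
    refine centralizer_le_normalizer _ (mem_centralizer_iff.mpr fun w hw => ?_)
    exact (mem_centralizer_iff.mp (hW₀ hw).2 v hv).symm
  have hSV : V ≤ normalizer (S : Set G) := fun v hv => mem_normalizer_sup
    (mem_normalizer_sup (mem_normalizer_inf (hAV k hv) (hWV v hv)) (hVN hv))
    (Coprime.mem_normalizer_commutator (hAV k hv) (le_normalizer hv))
  have hY : ∀ v ∈ V, v ≠ 1 → ⁅Q ⊓ centralizer {v}, V⁆ ⊓ D ≤ S := by
    intro v hv hv1
    set K := ⁅Q ⊓ centralizer {v}, V⁆ ⊓ D with hK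
    have hKV : V ≤ normalizer (K : Set G) := fun w hw => mem_normalizer_inf
      (Coprime.mem_normalizer_commutator (hCQ v hv hw) (le_normalizer hw)) (hAV k hw)
    rw [← Coprime.commutator_sup_centralizer hKV
      ((hV.coprime hDodd).coprime_dvd_right (Subgroup.card_dvd_of_le inf_le_right))
      (Or.inl hV.isSolvable)]
    exact sup_le ((commutator_mono inf_le_right le_rfl).trans le_sup_right)
      (fun c hc => le_sup_left (a := (D ⊓ W₀) ⊔ N) (mem_sup_left ⟨hc.1.2, hW v hv hv1 ⟨hc.1.1, hc.2⟩⟩))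
  have hSQ : Q ≤ normalizer (S : Set G) := by
    refine hgen _ (fun v hv hv1 y hy => ?_) (fun c hc => mem_normalizer_sup
      (mem_normalizer_sup (mem_normalizer_inf (hAN k hc.1) (hnorm hc)) (hQN hc.1))
      (Coprime.mem_normalizer_commutator (hAN k hc.1) (centralizer_le_normalizer _ hc.2)))
    set Y := ⁅Q ⊓ centralizer {v}, V⁆ with hYdef
    have hYQ : Y ≤ Q ⊓ centralizer {v} := Coprime.commutator_le_left_of_normalizer (hCQ v hv)
    have hyQ := hYQ hy
    set P := ⁅D, zpowers v⁆ with hP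
    set M := P ⊔ (Y ⊓ D) ⊔ N with hM
    have hPS : P ≤ S := (commutator_mono le_rfl (zpowers_le.mpr hv)).trans le_sup_right
    have hMS : M ≤ S := sup_le (sup_le hPS (hY v hv hv1))
      ((le_sup_right : N ≤ (D ⊓ W₀) ⊔ N).trans le_sup_left)
    have hyM : y ∈ normalizer (M : Set G) := by
      refine mem_normalizer_sup (mem_normalizer_sup ?_ ?_) (hQN hyQ.1)
      · refine Coprime.mem_normalizer_commutator (hAN k hyQ.1) (centralizer_le_normalizer _ ?_)
        refine mem_centralizer_iff.mpr fun z hz => ?_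
        obtain ⟨j, rfl⟩ := mem_zpowers_iff.mp hz
        exact ((show Commute v y from (mem_centralizer_singleton_iff.mp hyQ.2).symm).zpow_left j).eq
      · exact mem_normalizer_inf (le_normalizer hy) (hAN k hyQ.1)
    have hDM : ⁅D, V⁆ ≤ M := by
      have hDv : zpowers v ≤ normalizer (D : Set G) := (zpowers_le.mpr hv).trans (hAV k)
      have hcop : (Nat.card (zpowers v)).Coprime (Nat.card D) :=
        (hV.coprime hDodd).coprime_dvd_left (Subgroup.card_dvd_of_le (zpowers_le.mpr hv))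
      rw [commutator_le]
      intro d hd x hx
      rw [← Coprime.commutator_sup_centralizer hDv hcop
        (Or.inl (Coprime.isSolvable_zpowers v))] at hd
      obtain ⟨p, hp, e, he, rfl⟩ :=
        (Coprime.mem_sup_iff (inf_le_left.trans (normalizer_commutator_ge_left D (zpowers v)))).mp hd
      rw [commutatorElement_mul_left_eq_conj_mul]
      have hpM : p ∈ M := mem_sup_left (mem_sup_left hp)
      refine mul_mem (mul_mem (mul_mem hpM ?_) (inv_mem hpM)) ?_
      · refine mem_sup_left (mem_sup_right ⟨?_, ?_⟩)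
        · exact commutator_mem_commutator ⟨hDQ he.1,
            mem_centralizer_singleton_iff.mpr
              (mem_centralizer_iff.mp he.2 v (mem_zpowers v)).symm⟩ hx
        · exact Coprime.commutator_le_left_of_normalizer (hAV k) (commutator_mem_commutator he.1 hx)
      · have hxP : x ∈ normalizer (P : Set G) := by
          refine Coprime.mem_normalizer_commutator (hAV k hx) (centralizer_le_normalizer _ ?_)
          refine mem_centralizer_iff.mpr fun z hz => hV.comm ((zpowers_le.mpr hv) hz) hx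
        have h2 := mul_mem hp (Coprime.conj_mem hxP (inv_mem hp))
        exact mem_sup_left (mem_sup_left (by
          simpa [commutatorElement_def, mul_assoc] using h2))
    refine H48.mem_normalizer_of_cj_eq (H48.cj_eq_self_of_le (Subgroup.map_le_iff_le_comap.mpr ?_))
    refine sup_le (sup_le (fun z hz => ?_) ?_) ?_
    · rw [Subgroup.mem_comap]
      show y * z * y⁻¹ ∈ S
      have hz1 : z ∈ normalizer (Y : Set G) := by
        refine Coprime.mem_normalizer_commutator (le_normalizer ⟨hDQ hz.1, ?_⟩)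
          (centralizer_le_normalizer _ (hW₀ hz.2).2)
        exact mem_centralizer_singleton_iff.mpr (mem_centralizer_iff.mp (hW₀ hz.2).2 v hv).symm
      have h1 : y * z * y⁻¹ * z⁻¹ ∈ Y ⊓ D := by
        refine ⟨?_, D.mul_mem (Coprime.conj_mem (hAN k hyQ.1) hz.1) (D.inv_mem hz.1)⟩
        have := mul_mem hy (Coprime.conj_mem hz1 (inv_mem hy))
        simpa [mul_assoc] using this
      have := mul_mem (hY v hv hv1 h1)
        ((le_sup_left : (D ⊓ W₀) ⊔ N ≤ S) (mem_sup_left hz))
      simpa using this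
    · intro z hz
      rw [Subgroup.mem_comap]
      exact (le_sup_left : (D ⊓ W₀) ⊔ N ≤ S) (mem_sup_right (Coprime.conj_mem (hQN hyQ.1) hz))
    · intro z hz
      rw [Subgroup.mem_comap]
      exact hMS (Coprime.conj_mem hyM (hDM hz))
  have hSD : S ≤ D := sup_le (sup_le inf_le_left hND)
    (Coprime.commutator_le_left_of_normalizer (hAV k))
  by_cases hSN : S = N
  swap
  · intro c hc
    have hNS : N ≤ S := (le_sup_right : N ≤ (D ⊓ W₀) ⊔ N).trans le_sup_left
    have hlt : N < S := lt_of_le_of_ne hNS (Ne.symm hSN)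
    have h1 := hIH S hlt (hSD.trans hDQ) hSQ hSV hc
    rw [sup_comm] at h1
    obtain ⟨s, hs, w, hw, rfl⟩ := (Coprime.mem_sup_iff (hW₀.trans inf_le_left |>.trans hSQ)).mp h1
    have hsV : s ∈ centralizer (V : Set G) := by
      have := (centralizer (V : Set G)).mul_mem hc.2 ((centralizer (V : Set G)).inv_mem (hW₀ hw).2)
      simpa using this
    have hs' : s ∈ (⁅D, V⁆ ⊔ N) ⊔ (D ⊓ W₀) := by
      rw [sup_comm, sup_comm ⁅D, V⁆ N, ← sup_assoc]; exact hs
    obtain ⟨q, hq, e, he, rfl⟩ := (Coprime.mem_sup_iff (H := D ⊓ W₀) (fun g hg => mem_normalizer_sup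
      (normalizer_commutator_ge_left D V hg.1) (hQN (hDQ hg.1)))).mp hs'
    have hqV : q ∈ centralizer (V : Set G) := by
      have := mul_mem hsV (inv_mem (hW₀ he.2).2)
      simpa using this
    exact mul_mem (mul_mem (mem_sup_right (fixed_mem_of_abelian hV hDodd (hAV k) hVN
      (hDQ.trans hQN) hDab hq hqV)) (mem_sup_left he.2)) (mem_sup_left hw)
  exfalso
  have hDVN : ⁅D, V⁆ ≤ N := hSN ▸ le_sup_right
  have hDWN : D ⊓ W₀ ≤ N :=
    (le_sup_left : D ⊓ W₀ ≤ (D ⊓ W₀) ⊔ N).trans (le_sup_left.trans hSN.le)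
  -- `Q` centralizes `D` modulo `N`
  have hcen : ∀ q ∈ Q, ∀ d ∈ D, ⁅q, d⁆ ∈ N := by
    have h3 : ⁅⁅Q, V⁆, D⁆ ≤ N := by
      refine Coprime.commutator_rotate_le hQN hVN (hDQ.trans hQN) ?_ ?_
      · refine (commutator_mono (show ⁅V, D⁆ ≤ N by rw [commutator_comm]; exact hDVN) le_rfl).trans ?_
        exact Coprime.commutator_le_left_of_normalizer hQN
      · exact (commutator_mono (Coprime.commutator_le_left_of_normalizer (hAN k)) le_rfl).trans hDVN
    rw [hQV] at h3
    exact fun q hq d hd => h3 (commutator_mem_commutator hq hd)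
  rcases Nat.eq_zero_or_pos k with hk0 | hkpos
  · refine hDne (le_antisymm ?_ hND)
    have e : D = Q := by
      rw [hD, hk0]; exact le_antisymm (hAle 0) le_sup_left
    rw [e] at hDVN ⊢
    exact hQV.symm.le.trans hDVN
  obtain ⟨j, rfl⟩ : ∃ j, k = j + 1 := ⟨k - 1, by omega⟩
  set E := A j with hE
  have hEQ : E ≤ Q := hAle j
  have hEodd : Odd (Nat.card E) := hQ.of_dvd_nat (Subgroup.card_dvd_of_le hEQ)
  have hDE : D ≤ E := by
    rw [hD, hE]
    refine sup_le ((commutator_le_self _).trans le_sup_left) le_sup_right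
  have hEED : ∀ a ∈ E, ∀ b ∈ E, ⁅a, b⁆ ∈ D := by
    intro a ha b hb
    have hab : derived Q j ⊔ D ≤ Coprime.relCentralizer D (derived Q j ⊔ D) :=
      sup_le_relCentralizer ((derived_le j).trans (hAN (j + 1))) le_sup_left
    have hle : E ≤ derived Q j ⊔ D := sup_le le_sup_left (hND.trans le_sup_right)
    exact (hab (hle ha)).2 b (hle hb)
  have hlt : N < D := lt_of_le_of_ne hND (Ne.symm hDne)
  have hCE := hIH D hlt hDQ (hAN _) (hAV _)
  -- the inversion argument
  have hinv : ∀ a ∈ E, ∀ b ∈ E, ∀ w ∈ V, w * a * w⁻¹ = a → w * b * w⁻¹ = b⁻¹ → ⁅a, b⁆ ∈ N := by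
    intro a ha b hb w hw hwa hwb
    set z := ⁅a, b⁆ with hz
    have hzD : z ∈ D := hEED a ha b hb
    have e1 : w * z * w⁻¹ = b⁻¹ * z⁻¹ * b := by
      have : w * z * w⁻¹ = ⁅w * a * w⁻¹, w * b * w⁻¹⁆ := by
        rw [hz, commutatorElement_def, commutatorElement_def]; group
      rw [this, hwa, hwb, hz, commutatorElement_def, commutatorElement_def]; group
    have h1 : w * z * w⁻¹ * z⁻¹ ∈ N := by
      have := hDVN (commutator_mem_commutator (H₁ := D) (H₂ := V) hzD hw)
      have h' := inv_mem this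
      simpa [commutatorElement_def, mul_assoc] using h'
    have h2 : b⁻¹ * z⁻¹ * b * z ∈ N := by
      have := hcen b⁻¹ (inv_mem (hEQ hb)) z⁻¹ (inv_mem hzD)
      simpa [commutatorElement_def] using this
    rw [← e1] at h2
    have h3 : z * z ∈ N := by
      have := mul_mem (inv_mem h1) h2
      simpa [mul_assoc] using this
    have hzodd : Odd (orderOf z) := hDodd.of_dvd_nat (D.orderOf_dvd_natCard hzD)
    obtain ⟨r, hr⟩ := hzodd
    have h4 : z = (z * z) ^ (r + 1) := by
      rw [← pow_two, ← pow_mul, show 2 * (r + 1) = orderOf z + 1 by omega, pow_succ,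
        pow_orderOf_eq_one, one_mul]
    rw [h4]
    exact N.pow_mem h3 _
  set T : Set G := (D : Set G) ∪ ((W₀ ⊓ E : Subgroup G) : Set G) ∪
    {g | ∃ v ∈ V, v ≠ 1 ∧ ∃ w ∈ V, w ≠ 1 ∧ w ≠ v ∧ ∃ c ∈ E, c * v = v * c ∧ g = ⁅c, w⁆} with hT
  have hTE : T ⊆ (E : Set G) := by
    rintro g ((hg | hg) | ⟨v, hv, -, w, hw, -, -, c, hc, -, rfl⟩)
    · exact hDE hg
    · exact hg.2
    · exact Coprime.commutator_le_left_of_normalizer (hAV j) (commutator_mem_commutator hc hw)
  have hEgen : E ≤ closure T := by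
    haveI := hV.isMulCommutative
    refine Coprime.le_of_centralizer_noncyclic_le hV.not_isCyclic (hAV j) (hV.coprime hEodd)
      fun v hv hv1 => ?_
    have hK : V ≤ normalizer ((E ⊓ centralizer {v} : Subgroup G) : Set G) := fun w hw =>
      mem_normalizer_inf (hAV j hw) (le_normalizer (mem_centralizer_singleton_iff.mpr (hV.comm hw hv)))
    rw [← Coprime.commutator_sup_centralizer hK
      ((hV.coprime hEodd).coprime_dvd_right (Subgroup.card_dvd_of_le inf_le_left))
      (Or.inl hV.isSolvable)]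
    refine sup_le (commutator_le.mpr fun c hc w hw => ?_) fun c hc => ?_
    · have hcv := mem_centralizer_singleton_iff.mp hc.2
      by_cases hw1 : w = 1
      · subst hw1; rw [commutatorElement_one_right]; exact one_mem _
      by_cases hwv : w = v
      · subst hwv; rw [commutatorElement_eq_one_iff_mul_comm.mpr hcv]; exact one_mem _
      exact subset_closure (Or.inr ⟨v, hv, hv1, w, hw, hw1, hwv, c, hc.1, hcv, rfl⟩)
    · have h1 := hCE ⟨hEQ hc.1.1, hc.2⟩
      rw [sup_comm] at h1
      obtain ⟨d, hd, w, hw, rfl⟩ := (Coprime.mem_sup_iff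
        ((hW₀.trans inf_le_left).trans (hAN _))).mp h1
      have hwE : w ∈ E := by
        have := mul_mem (inv_mem (hDE hd)) hc.1.1
        simpa using this
      exact mul_mem (subset_closure (Or.inl (Or.inl hd))) (subset_closure (Or.inl (Or.inr ⟨hw, hwE⟩)))
  have hpair : ∀ a ∈ T, ∀ b ∈ T, ⁅a, b⁆ ∈ N := by
    intro a ha b hb
    have haE : a ∈ E := hTE ha
    have hbE : b ∈ E := hTE hb
    have hswap : ⁅b, a⁆ ∈ N → ⁅a, b⁆ ∈ N := fun h => by
      have := inv_mem h; rwa [commutatorElement_inv] at this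
    have hact : ∀ g, (∃ v ∈ V, v ≠ 1 ∧ ∃ w ∈ V, w ≠ 1 ∧ w ≠ v ∧ ∃ c ∈ E, c * v = v * c ∧
        g = ⁅c, w⁆) → ∃ v ∈ V, v ≠ 1 ∧ g ∈ ⁅Q ⊓ centralizer {v}, V⁆ ∧ v * g * v⁻¹ = g ∧
          ∀ u ∈ V, u ≠ 1 → u ≠ v → u * g * u⁻¹ = g⁻¹ := by
      rintro g ⟨v, hv, hv1, w, hw, hw1, hwv, c, hc, hcv, rfl⟩
      refine ⟨v, hv, hv1, commutator_mem_commutator
        ⟨hEQ hc, mem_centralizer_singleton_iff.mpr hcv⟩ hw, ?_, ?_⟩
      · have e1 : v * c * v⁻¹ = c := by rw [← hcv]; group
        have e2 : v * w * v⁻¹ = w := by rw [hV.comm hv hw]; group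
        calc v * ⁅c, w⁆ * v⁻¹ = ⁅v * c * v⁻¹, v * w * v⁻¹⁆ := by
              rw [commutatorElement_def, commutatorElement_def]; group
          _ = _ := by rw [e1, e2]
      · intro u hu hu1 huv
        have hw2 : w * w = 1 := hV.sq w hw
        have key : w * ⁅c, w⁆ * w⁻¹ = ⁅c, w⁆⁻¹ := by
          rw [commutatorElement_def, hV.inv_eq hw]
          simp only [mul_inv_rev, inv_inv, hV.inv_eq hw]
          calc w * (c * w * c⁻¹ * w) * w = w * c * w * c⁻¹ * (w * w) := by group
            _ = _ := by rw [hw2]; group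
        rcases hV.eq_or hv hv1 hw hw1 hwv hu with h | h | h | h
        · exact absurd h hu1
        · exact absurd h huv
        · rw [h]; exact key
        · have e1 : v * c * v⁻¹ = c := by rw [← hcv]; group
          have e2 : v * w * v⁻¹ = w := by rw [hV.comm hv hw]; group
          have e3 : v * ⁅c, w⁆ * v⁻¹ = ⁅c, w⁆ := by
            calc v * ⁅c, w⁆ * v⁻¹ = ⁅v * c * v⁻¹, v * w * v⁻¹⁆ := by
                  rw [commutatorElement_def, commutatorElement_def]; group
              _ = _ := by rw [e1, e2]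
          subst h
          calc v * w * ⁅c, w⁆ * (v * w)⁻¹ = v * (w * ⁅c, w⁆ * w⁻¹) * v⁻¹ := by group
            _ = (v * ⁅c, w⁆ * v⁻¹)⁻¹ := by rw [key]; group
            _ = _ := by rw [e3]
    have hfix : ∀ g ∈ W₀, ∀ u ∈ V, u * g * u⁻¹ = g := fun g hg u hu =>
      Coprime.conj_eq_of_mem_centralizer (hW₀ hg).2 hu
    rcases ha with (ha | ha) | ha
    · exact hswap (hcen b (hEQ hbE) a ha)
    · rcases hb with (hb | hb) | hb
      · exact hcen a (hEQ haE) b hb
      · exact hDWN ⟨hEED a haE b hbE, commutator_mem_of_mem ha.1 hb.1⟩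
      · obtain ⟨v, hv, hv1, -, -, hi⟩ := hact b hb
        obtain ⟨u, hu, hu1, huv⟩ := hV.exists_other v
        exact hinv a haE b hbE u hu (hfix a ha.1 u hu) (hi u hu hu1 huv)
    · obtain ⟨v, hv, hv1, hav, hfa, hia⟩ := hact a ha
      rcases hb with (hb | hb) | hb
      · exact hcen a (hEQ haE) b hb
      · obtain ⟨u, hu, hu1, huv⟩ := hV.exists_other v
        exact hswap (hinv b hbE a haE u hu (hfix b hb.1 u hu) (hia u hu hu1 huv))
      · obtain ⟨v', hv', hv'1, hbv, hfb, hib⟩ := hact b hb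
        by_cases hvv : v = v'
        · subst hvv
          exact hSN.le (hY v hv hv1 ⟨commutator_mem_of_mem hav hbv, hEED a haE b hbE⟩)
        · exact hinv a haE b hbE v hv hfa (hib v hv hv1 hvv)
  have hEN : E ≤ normalizer (N : Set G) := hEQ.trans hQN
  have hab : E ≤ Coprime.relCentralizer N E := by
    -- elements centralizing `g` modulo `N`
    let Z : G → Subgroup G := fun g =>
      { carrier := {x | x ∈ normalizer (N : Set G) ∧ ⁅x, g⁆ ∈ N}
        one_mem' := ⟨one_mem _, by rw [commutatorElement_one_left]; exact one_mem N⟩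
        mul_mem' := fun {x y} hx hy => ⟨mul_mem hx.1 hy.1, by
          rw [commutatorElement_mul_left_eq_conj_mul]
          exact mul_mem (Coprime.conj_mem hx.1 hy.2) hx.2⟩
        inv_mem' := fun {x} hx => ⟨inv_mem hx.1, by
          rw [commutatorElement_inv_left, ← commutatorElement_inv x g]
          exact Coprime.conj_mem' hx.1 (inv_mem hx.2)⟩ }
    have h1 : ∀ t ∈ T, E ≤ Z t := fun t ht =>
      hEgen.trans ((closure_le _).mpr fun s hs => ⟨hEN (hTE hs), hpair s hs t ht⟩)
    intro x hx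
    refine ⟨hEN hx, fun y hy => ?_⟩
    have h2 : E ≤ Z x := hEgen.trans ((closure_le _).mpr fun t ht => ⟨hEN (hTE ht), by
      have := inv_mem (h1 t ht hx).2
      rwa [commutatorElement_inv] at this⟩)
    have := inv_mem (h2 hy).2
    rwa [commutatorElement_inv] at this
  refine hDne (le_antisymm ?_ hND)
  rw [hD]
  exact sup_le ((commutator_mono (le_sup_left : derived Q j ≤ E) le_sup_left).trans
    (Coprime.commutator_le_of_le_relCentralizer hab)) le_rfl

/-- If the fixed points of every `[C_Q(v), V]` lie in `W₀`, so do those of `[Q, V]`. -/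
theorem fixed_mem_of_four {V Q W₀ : Subgroup G} (hV : IsFour V) (hQ : Odd (Nat.card Q))
    (hsol : Group.IsSolvable Q) (hVQ : V ≤ normalizer (Q : Set G))
    (hnorm : Q ⊓ centralizer (V : Set G) ≤ normalizer (W₀ : Set G))
    (hW : ∀ v ∈ V, v ≠ 1 → ⁅Q ⊓ centralizer {v}, V⁆ ⊓ centralizer (V : Set G) ≤ W₀) :
    ⁅Q, V⁆ ⊓ centralizer (V : Set G) ≤ W₀ := by
  set P := ⁅Q, V⁆ with hP
  have hPQ : P ≤ Q := Coprime.commutator_le_left_of_normalizer hVQ
  have hVP : V ≤ normalizer (P : Set G) := normalizer_commutator_ge_right Q V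
  set W := W₀ ⊓ (P ⊓ centralizer (V : Set G)) with hWdef
  have h := fixed_le_sup (W₀ := W) hV (hQ.of_dvd_nat (Subgroup.card_dvd_of_le hPQ))
    (Coprime.isSolvable_of_le hPQ hsol) hVP
    (Coprime.commutator_commutator_eq hVQ (hV.coprime hQ) (Or.inl hV.isSolvable)) inf_le_right
    (fun c hc => mem_normalizer_inf (hnorm ⟨hPQ hc.1, hc.2⟩) (mem_normalizer_inf
      (le_normalizer hc.1) (le_normalizer hc.2)))
    (fun v hv hv1 c hc => ⟨hW v hv hv1 ⟨commutator_mono (inf_le_inf_right _ hPQ) le_rfl hc.1, hc.2⟩,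
      (Coprime.commutator_le_left_of_normalizer (fun w hw => mem_normalizer_inf (hVP hw)
        (le_normalizer (mem_centralizer_singleton_iff.mpr (hV.comm hw hv)))) hc.1).1, hc.2⟩)
    (Nat.card P) ⊥ (by omega) bot_le (le_of_le_of_eq le_top (normalizer_eq_top (H := (⊥ : Subgroup G))).symm)
    (le_of_le_of_eq le_top (normalizer_eq_top (H := (⊥ : Subgroup G))).symm)
  rw [sup_bot_eq] at h
  exact h.trans inf_le_left

end Cfsg.Agent.H52.Commuting
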