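import Cfsg.Agent.H52.Commuting.Local
import Cfsg.Agent.H52.Commuting.FourFix
import Cfsg.Agent.S0217
import Cfsg.Agent.S0205

/-!
A signalizer functor on the product of two commuting four groups, one from each side.
-/

set_option autoImplicit false
set_option linter.style.haveILetI false

namespace Cfsg.Agent.H52.Commuting

open Subgroup
open Cfsg.Agent
open scoped commutatorElement

universe u

variable {G : Type u} [Group G]

theorem invol_inverts {q v : G} (hv : v * v = 1) : v * ⁅q, v⁆ * v⁻¹ = ⁅q, v⁆⁻¹ := by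
  rw [commutatorElement_def, mul_inv_rev, mul_inv_rev, mul_inv_rev, inv_inv, inv_inv,
    inv_eq_of_mul_eq_one_right hv]
  calc v * (q * v * q⁻¹ * v) * v = v * q * v * q⁻¹ * (v * v) := by group
    _ = _ := by rw [hv]; group

theorem mem_zpowers_invol {v z : G} (hv : v * v = 1) (hz : z ∈ zpowers v) : z = 1 ∨ z = v := by
  obtain ⟨i, rfl⟩ := mem_zpowers_iff.mp hz
  rcases Int.even_or_odd i with ⟨j, rfl⟩ | ⟨j, rfl⟩
  · exact Or.inl (by rw [zpow_add, ← (Commute.refl v).mul_zpow, hv, one_zpow])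
  · exact Or.inr (by
      rw [zpow_add_one, two_mul, zpow_add, ← (Commute.refl v).mul_zpow, hv, one_zpow, one_mul])

/-- Commutation is symmetric in the centralizer of a subgroup. -/
theorem mem_centralizer_zpowers {v c : G} (h : c * v = v * c) :
    c ∈ centralizer (zpowers v : Set G) :=
  mem_centralizer_iff.mpr fun z hz => by
    obtain ⟨j, rfl⟩ := mem_zpowers_iff.mp hz
    exact ((show Commute v c from h.symm).zpow_left j).eq

theorem commute_commutator {a b w : G} (ha : a * w = w * a) (hb : b * w = w * b) :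
    ⁅a, b⁆ * w = w * ⁅a, b⁆ := by
  rw [commutatorElement_def]
  exact ((((show Commute a w from ha).mul_left (show Commute b w from hb)).mul_left
    (show Commute a w from ha).inv_left).mul_left (show Commute b w from hb).inv_left).eq

/-- Two commuting four groups, one inside each union of conjugates. -/
structure Frame (T₁ T₂ U V : Subgroup G) : Prop where
  four₁ : IsFour U
  four₂ : IsFour V
  sub₁ : ∀ u ∈ U, u ∈ Conjs T₁
  sub₂ : ∀ v ∈ V, v ∈ Conjs T₂
  comm : ∀ u ∈ U, ∀ v ∈ V, u * v = v * u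

theorem Frame.symm {T₁ T₂ U V : Subgroup G} (h : Frame T₁ T₂ U V) : Frame T₂ T₁ V U :=
  ⟨h.four₂, h.four₁, h.sub₂, h.sub₁, fun v hv u hu => (h.comm u hu v hv).symm⟩

/-- An invariant subgroup of `O(C(x))` all whose fixed points lie in the relevant cores. -/
def Balanced (A : Subgroup G) (x : G) (X : Subgroup G) : Prop :=
  X ≤ cCore x ∧ A ≤ normalizer (X : Set G) ∧ ∀ w ∈ A, w ≠ 1 → X ⊓ centralizer {w} ≤ cCore w

/-- The signalizer functor. -/
noncomputable def theta (A : Subgroup G) (x : G) : Subgroup G := sSup {X | Balanced A x X}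

/-- The subgroup generated by the signalizers. -/
noncomputable def gen (A : Subgroup G) : Subgroup G :=
  ⨆ a : {a : G // a ∈ A ∧ a ≠ 1}, theta A a

theorem le_theta {A : Subgroup G} {x : G} {X : Subgroup G} (h : Balanced A x X) : X ≤ theta A x :=
  le_sSup h

theorem theta_le_cCore (A : Subgroup G) (x : G) : theta A x ≤ cCore x :=
  sSup_le fun _ h => h.1

theorem theta_le_gen {A : Subgroup G} {x : G} (hx : x ∈ A) (h1 : x ≠ 1) : theta A x ≤ gen A :=
  le_iSup (fun a : {a : G // a ∈ A ∧ a ≠ 1} => theta A a) ⟨x, hx, h1⟩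

variable [Finite G] {S : Sylow 2 G} {T₁ T₂ U V : Subgroup G}

theorem Frame.mem_iff (h : Frame T₁ T₂ U V) {x : G} :
    x ∈ U ⊔ V ↔ ∃ u ∈ U, ∃ v ∈ V, u * v = x :=
  Coprime.mem_sup_iff (fun v hv => centralizer_le_normalizer _
    (mem_centralizer_iff.mpr fun u hu => h.comm u hu v hv))

theorem Frame.commute (h : Frame T₁ T₂ U V) {a b : G} (ha : a ∈ U ⊔ V) (hb : b ∈ U ⊔ V) :
    a * b = b * a := by
  obtain ⟨u, hu, v, hv, rfl⟩ := h.mem_iff.mp ha
  obtain ⟨u', hu', v', hv', rfl⟩ := h.mem_iff.mp hb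
  refine (Commute.mul_left (Commute.mul_right ?_ ?_) (Commute.mul_right ?_ ?_)).eq
  · exact h.four₁.comm hu hu'
  · exact h.comm u hu v' hv'
  · exact (h.comm u' hu' v hv).symm
  · exact h.four₂.comm hv hv'

theorem Frame.sq (h : Frame T₁ T₂ U V) {a : G} (ha : a ∈ U ⊔ V) : a * a = 1 := by
  obtain ⟨u, hu, v, hv, rfl⟩ := h.mem_iff.mp ha
  calc u * v * (u * v) = u * (v * u) * v := by group
    _ = u * (u * v) * v := by rw [h.comm u hu v hv]
    _ = (u * u) * (v * v) := by group
    _ = 1 := by rw [h.four₁.sq u hu, h.four₂.sq v hv, one_mul]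

theorem Frame.le_centralizer (h : Frame T₁ T₂ U V) {a : G} (ha : a ∈ U ⊔ V) :
    U ⊔ V ≤ centralizer ({a} : Set G) :=
  fun b hb => mem_centralizer_singleton_iff.mpr (h.commute hb ha)

theorem Frame.isPGroup (h : Frame T₁ T₂ U V) : IsPGroup 2 (U ⊔ V : Subgroup G) :=
  fun x => ⟨1, Subtype.ext (by simpa [pow_two] using h.sq x.2)⟩

theorem Frame.coprime (h : Frame T₁ T₂ U V) {E Q : Subgroup G} (hE : E ≤ U ⊔ V)
    (hQ : Odd (Nat.card Q)) : (Nat.card E).Coprime (Nat.card Q) := by
  haveI : Fact (Nat.Prime 2) := ⟨Nat.prime_two⟩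
  obtain ⟨n, hn⟩ := IsPGroup.iff_card.mp (h.isPGroup.to_le hE)
  rw [hn]
  exact ((Nat.coprime_two_left).mpr hQ).pow_left n

theorem Frame.decompose (h : Frame T₁ T₂ U V) {E X : Subgroup G} (hE : E ≤ U ⊔ V)
    (hX : Odd (Nat.card X)) (hn : E ≤ normalizer (X : Set G)) :
    ⁅X, E⁆ ⊔ (X ⊓ centralizer (E : Set G)) = X := by
  haveI : IsMulCommutative E := ⟨⟨fun a b => Subtype.ext (h.commute (hE a.2) (hE b.2))⟩⟩
  exact Coprime.commutator_sup_centralizer hn (h.coprime hE hX)
    (Or.inl Coprime.isSolvable_of_isMulCommutative)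

theorem Frame.eq_one (c : Cfg S T₁ T₂) (h : Frame T₁ T₂ U V) {x : G} (hu : x ∈ U) (hv : x ∈ V) :
    x = 1 :=
  c.pair.eq_one (h.sub₁ x hu) (h.sub₂ x hv)

theorem Frame.centralizer_ne_top (c : Cfg S T₁ T₂) (h : Frame T₁ T₂ U V) {w : G}
    (hw : w ∈ U ⊔ V) (h1 : w ≠ 1) : centralizer ({w} : Set G) ≠ ⊤ := by
  obtain ⟨u, hu, v, hv, rfl⟩ := h.mem_iff.mp hw
  by_cases hu1 : u = 1
  · subst hu1
    rw [one_mul] at h1 ⊢
    exact c.symm.centralizer_ne_top (h.sub₂ v hv) h1
  intro hc
  exact c.prod_not_central (h.sub₁ u hu) (h.sub₂ v hv) hu1 (h.four₁.sq u hu) (h.four₂.sq v hv)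
    (h.comm u hu v hv) fun g => (mem_centralizer_singleton_iff.mp (hc ▸ mem_top g)).symm

/-- The signalizer at an element of `U`. -/
noncomputable def thetaSide (V : Subgroup G) (u : G) : Subgroup G :=
  ⁅cCore u, V⁆ ⊔ (cCore u ⊓ centralizer (V : Set G) ⊓ ⨅ v : {v : G // v ∈ V ∧ v ≠ 1}, cCore v.1)

theorem thetaSide_balanced (c : Cfg S T₁ T₂) (h : Frame T₁ T₂ U V) {u : G} (hu : u ∈ U)
    (hu1 : u ≠ 1) :
    Balanced (U ⊔ V) u (thetaSide V u) ∧ ∀ X, Balanced (U ⊔ V) u X → X ≤ thetaSide V u := by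
  set Q := cCore u with hQ
  set W := Q ⊓ centralizer (V : Set G) ⊓ ⨅ v : {v : G // v ∈ V ∧ v ≠ 1}, cCore v.1 with hW
  have huA : u ∈ U ⊔ V := mem_sup_left hu
  have hVQ : V ≤ normalizer (Q : Set G) := fun v hv =>
    mem_normalizer_cCore (h.comm u hu v hv).symm
  have hQodd : Odd (Nat.card Q) := odd_cCore u
  have hWmem : ∀ z, z ∈ W ↔ z ∈ Q ∧ z ∈ centralizer (V : Set G) ∧
      ∀ v ∈ V, v ≠ 1 → z ∈ cCore v := by
    intro z
    simp only [hW, Subgroup.mem_inf, Subgroup.mem_iInf, Subtype.forall, and_imp, and_assoc]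
  have hWn : ∀ g, g * u = u * g → (∀ v ∈ V, g * v = v * g) → g ∈ normalizer (W : Set G) := by
    intro g hgu hgV
    refine H48.mem_normalizer_of_cj_eq (H48.cj_eq_self_of_le (H48.cj_le.mpr fun z hz => ?_))
    rw [hWmem] at hz ⊢
    refine ⟨Coprime.conj_mem (mem_normalizer_cCore hgu) hz.1, ?_, fun v hv hv1 =>
      Coprime.conj_mem (mem_normalizer_cCore (hgV v hv)) (hz.2.2 v hv hv1)⟩
    exact mul_mem (mul_mem (mem_centralizer_iff.mpr fun v hv => (hgV v hv).symm) hz.2.1)
      (inv_mem (mem_centralizer_iff.mpr fun v hv => (hgV v hv).symm))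
  have hbr : ∀ (X : Subgroup G), X ≤ Q → V ≤ normalizer (X : Set G) → ∀ w ∈ U ⊔ V, w ≠ 1 →
      X ≤ centralizer {w} → ⁅X, V⁆ ≤ cCore w := by
    intro X hXQ hXV w hw hw1 hXw
    refine commutator_le.mpr fun e he v hv => ?_
    have hmem := Coprime.commutator_le_left_of_normalizer hXV (commutator_mem_commutator he hv)
    exact c.mem_core_half (h.centralizer_ne_top c hw hw1) (h.sub₁ u hu) (h.commute huA hw)
      (hXQ hmem) (mem_centralizer_singleton_iff.mp (hXw hmem)) (h.sub₂ v hv)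
      (h.commute (mem_sup_right hv) hw) (invol_inverts (h.four₂.sq v hv))
  have hfix : ∀ z ∈ W, ∀ w ∈ U ⊔ V, w ≠ 1 → z * w = w * z → z ∈ cCore w := by
    intro z hz w hw hw1 hzw
    rw [hWmem] at hz
    obtain ⟨v, hv, hv1, -⟩ := h.four₂.exists_other 1
    exact c.mem_core_inf (h.centralizer_ne_top c hw hw1) (h.sub₁ u hu) (h.sub₂ v hv)
      (h.commute huA hw) (h.commute (mem_sup_right hv) hw) hz.1 (hz.2.2 v hv hv1) hzw
  have hR : ⁅Q, V⁆ ⊓ centralizer (V : Set G) ≤ W := by
    refine fixed_mem_of_four h.four₂ hQodd (Cfsg.Agent.S0205.result hQodd) hVQ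
      (fun g hg => hWn g (cCore_commute hg.1) fun v hv => (mem_centralizer_iff.mp hg.2 v hv).symm) ?_
    intro v hv hv1 z hz
    have hVX : V ≤ normalizer ((Q ⊓ centralizer {v} : Subgroup G) : Set G) := fun w hw =>
      mem_normalizer_inf (hVQ hw) (le_normalizer (mem_centralizer_singleton_iff.mpr
        (h.four₂.comm hw hv)))
    have hzv : z ∈ cCore v :=
      hbr _ inf_le_left hVX v (mem_sup_right hv) hv1 inf_le_right hz.1
    have hzQ : z ∈ Q := (Coprime.commutator_le_left_of_normalizer hVX hz.1).1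
    rw [hWmem]
    exact ⟨hzQ, hz.2, fun v' hv' hv'1 => c.mem_core_inf (h.centralizer_ne_top c (mem_sup_right hv') hv'1)
      (h.sub₁ u hu) (h.sub₂ v hv) (h.comm u hu v' hv') (h.four₂.comm hv hv') hzQ hzv
      (mem_centralizer_iff.mp hz.2 v' hv').symm⟩
  have hle : thetaSide V u ≤ Q :=
    sup_le (Coprime.commutator_le_left_of_normalizer hVQ) (fun z hz => ((hWmem z).mp hz).1)
  have hA : U ⊔ V ≤ normalizer (thetaSide V u : Set G) := by
    intro a ha
    have hau : a * u = u * a := h.commute ha huA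
    have haV : ∀ v ∈ V, a * v = v * a := fun v hv => h.commute ha (mem_sup_right hv)
    exact mem_normalizer_sup (Coprime.mem_normalizer_commutator (mem_normalizer_cCore hau)
      (centralizer_le_normalizer _ (mem_centralizer_iff.mpr fun v hv => (haV v hv).symm)))
      (hWn a hau haV)
  have hC : thetaSide V u ⊓ centralizer (V : Set G) ≤ W := by
    rintro z ⟨hz, hzV⟩
    have hWle : W ≤ normalizer ((⁅Q, V⁆ : Subgroup G) : Set G) := fun g hg =>
      normalizer_commutator_ge_left Q V ((hWmem g).mp hg).1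
    obtain ⟨m, hm, w, hw, rfl⟩ := (Coprime.mem_sup_iff hWle).mp hz
    have hmV : m ∈ centralizer (V : Set G) := by
      have := (centralizer (V : Set G)).mul_mem hzV
        ((centralizer (V : Set G)).inv_mem ((hWmem w).mp hw).2.1)
      simpa using this
    exact mul_mem (hR ⟨hm, hmV⟩) hw
  refine ⟨⟨hle, hA, fun w hw hw1 => ?_⟩, fun X hX => ?_⟩
  · set X := thetaSide V u ⊓ centralizer {w} with hX
    have hXV : V ≤ normalizer (X : Set G) := fun v hv => mem_normalizer_inf (hA (mem_sup_right hv))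
      (le_normalizer (h.le_centralizer hw (mem_sup_right hv)))
    rw [← h.decompose (X := X) le_sup_right
      (hQodd.of_dvd_nat (Subgroup.card_dvd_of_le (inf_le_left.trans hle))) hXV]
    exact sup_le (hbr X (inf_le_left.trans hle) hXV w hw hw1 inf_le_right) fun z hz =>
      hfix z (hC ⟨hz.1.1, hz.2⟩) w hw hw1 (mem_centralizer_singleton_iff.mp hz.1.2)
  · have hXV : V ≤ normalizer (X : Set G) := le_sup_right.trans hX.2.1
    rw [← h.decompose le_sup_right (hQodd.of_dvd_nat (Subgroup.card_dvd_of_le hX.1)) hXV]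
    refine sup_le ((commutator_mono hX.1 le_rfl).trans le_sup_left) fun z hz => mem_sup_right ?_
    rw [hWmem]
    exact ⟨hX.1 hz.1, hz.2, fun v hv hv1 => hX.2.2 v (mem_sup_right hv) hv1
      ⟨hz.1, mem_centralizer_singleton_iff.mpr (mem_centralizer_iff.mp hz.2 v hv).symm⟩⟩

theorem theta_side (c : Cfg S T₁ T₂) (h : Frame T₁ T₂ U V) {u : G} (hu : u ∈ U) (hu1 : u ≠ 1) :
    theta (U ⊔ V) u = thetaSide V u :=
  le_antisymm (sSup_le (thetaSide_balanced c h hu hu1).2)
    (le_theta (thetaSide_balanced c h hu hu1).1)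

theorem theta_side₂ (c : Cfg S T₁ T₂) (h : Frame T₁ T₂ U V) {v : G} (hv : v ∈ V) (hv1 : v ≠ 1) :
    theta (U ⊔ V) v = thetaSide U v := by
  rw [sup_comm]; exact theta_side c.symm h.symm hv hv1

/-- For `q` in the core of `u v`, the commutators with `u` and with `v` agree. -/
theorem commutator_prod_eq {q u v : G} (hu : u * u = 1) (hv : v * v = 1)
    (hq : q * (u * v) = (u * v) * q) : ⁅q, u⁆ = ⁅q, v⁆ := by
  rw [commutatorElement_def, commutatorElement_def, inv_eq_of_mul_eq_one_right hu,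
    inv_eq_of_mul_eq_one_right hv]
  have e : q * v * q⁻¹ = q * u * q⁻¹ * (u * v) := by
    calc q * v * q⁻¹ = q * (u * u) * v * q⁻¹ := by rw [hu, mul_one]
      _ = q * u * q⁻¹ * (q * (u * v)) * q⁻¹ := by group
      _ = _ := by rw [hq]; group
  rw [e]
  calc q * u * q⁻¹ * u = q * u * q⁻¹ * u * (v * v) := by rw [hv, mul_one]
    _ = _ := by group

/-- The key fact at a product `u v`. -/
theorem prod_fixed_le (c : Cfg S T₁ T₂) (h : Frame T₁ T₂ U V) {u v : G} (hu : u ∈ U) (hu1 : u ≠ 1)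
    (hv : v ∈ V) (hv1 : v ≠ 1) :
    ⁅cCore (u * v), zpowers u⁆ ⊓ centralizer {u} ≤ cCore v := by
  haveI : Fact (Nat.Prime 2) := ⟨Nat.prime_two⟩
  set Q := cCore (u * v) with hQ
  have hQodd : Odd (Nat.card Q) := odd_cCore _
  have huA : u ∈ U ⊔ V := mem_sup_left hu
  have hvA : v ∈ U ⊔ V := mem_sup_right hv
  have hQn : U ⊔ V ≤ normalizer (Q : Set G) := fun a ha =>
    mem_normalizer_cCore (h.commute ha (mul_mem huA hvA))
  have hu2 := h.four₁.sq u hu
  have hv2 := h.four₂.sq v hv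
  obtain ⟨v', hv', hv'1, hv'v⟩ := h.four₂.exists_other v
  have hv'A : v' ∈ U ⊔ V := mem_sup_right hv'
  have hv'2 := h.four₂.sq v' hv'
  set B := zpowers u ⊔ zpowers v' with hB
  have hBA : B ≤ U ⊔ V := sup_le (zpowers_le.mpr huA) (zpowers_le.mpr hv'A)
  have hBiff : ∀ z, z ∈ B ↔ ∃ a ∈ zpowers u, ∃ b ∈ zpowers v', a * b = z := fun z =>
    Coprime.mem_sup_iff (fun b hb => centralizer_le_normalizer _ (mem_centralizer_iff.mpr
      fun a ha => h.commute ((zpowers_le.mpr huA) ha) ((zpowers_le.mpr hv'A) hb)))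
  have hBfour : IsFour B := by
    refine ⟨?_, fun z hz => h.sq (hBA hz)⟩
    have hd : zpowers u ⊓ zpowers v' = ⊥ := by
      rw [eq_bot_iff]
      rintro z ⟨hz1, hz2⟩
      exact mem_bot.mpr (h.eq_one c ((zpowers_le.mpr hu) hz1) ((zpowers_le.mpr hv') hz2))
    rw [hB, Coprime.card_sup (fun b hb => centralizer_le_normalizer _ (mem_centralizer_iff.mpr
      fun a ha => h.commute ((zpowers_le.mpr huA) ha) ((zpowers_le.mpr hv'A) hb))) hd,
      Nat.card_zpowers, Nat.card_zpowers, orderOf_eq_prime (by rw [pow_two]; exact hu2) hu1,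
      orderOf_eq_prime (by rw [pow_two]; exact hv'2) hv'1]
  have huv : u * v = v * u := h.comm u hu v hv
  have hcv : ∀ z ∈ Q, z * u = u * z → z * v = v * z := by
    intro z hz hzu
    have := ((show Commute z u from hzu).mul_right (show Commute z (u * v) from cCore_commute hz))
    rwa [← mul_assoc, hu2, one_mul] at this
  have hiv : ∀ e ∈ Q, e * u = u * e → ∀ v₀ ∈ V, v₀ * e * v₀⁻¹ = e⁻¹ → e ∈ cCore v := by
    intro e he heu v₀ hv₀ hi
    exact c.symm.mem_core_prod (h.sub₂ v hv) hv1 (h.sub₁ u hu) huv.symm (huv ▸ he)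
      (hcv e he heu) (h.sub₂ v₀ hv₀) (h.four₂.comm hv₀ hv) hi
  have hR : ⁅Q, B⁆ ⊓ centralizer (B : Set G) ≤ Q ⊓ centralizer (B : Set G) ⊓ cCore v := by
    refine fixed_mem_of_four hBfour hQodd (Cfsg.Agent.S0205.result hQodd) (hBA.trans hQn) ?_ ?_
    · intro g hg
      refine mem_normalizer_inf (le_normalizer hg) (mem_normalizer_cCore (hcv g hg.1 ?_))
      exact (mem_centralizer_iff.mp hg.2 u (mem_sup_left (mem_zpowers u))).symm
    intro b hb hb1 z hz
    have hBX : B ≤ normalizer ((Q ⊓ centralizer {b} : Subgroup G) : Set G) := fun w hw =>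
      mem_normalizer_inf (hQn (hBA hw))
        (le_normalizer (mem_centralizer_singleton_iff.mpr (hBfour.comm hw hb)))
    have hzQ : z ∈ Q := (Coprime.commutator_le_left_of_normalizer hBX hz.1).1
    refine ⟨⟨hzQ, hz.2⟩, ?_⟩
    have hzu : z * u = u * z :=
      (mem_centralizer_iff.mp hz.2 u (mem_sup_left (mem_zpowers u))).symm
    obtain ⟨a, ha, a', ha', hab⟩ := (hBiff b).mp hb
    by_cases hbu : b = u
    · refine (commutator_le (H₁ := Q ⊓ centralizer {b})).mpr (fun q hq w hw => ?_) hz.1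
      have hqu : q * u = u * q := hbu ▸ mem_centralizer_singleton_iff.mp hq.2
      obtain ⟨r, hr, r', hr', rfl⟩ := (hBiff w).mp hw
      have e1 : ⁅q, r⁆ = 1 := commutatorElement_eq_one_iff_mul_comm.mpr (by
        rcases mem_zpowers_invol hu2 hr with rfl | rfl
        · simp
        · exact hqu)
      rw [commutatorElement_mul_right_eq_mul_conj, e1]
      simp only [one_mul]
      have e2 : r * ⁅q, r'⁆ * r⁻¹ = ⁅q, r'⁆ := by
        have hrr' : r' * r = r * r' := h.commute ((zpowers_le.mpr hv'A) hr') ((zpowers_le.mpr huA) hr)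
        have := commute_commutator (commutatorElement_eq_one_iff_mul_comm.mp e1) hrr'
        rw [← this]; group
      rw [e2]
      rcases mem_zpowers_invol hv'2 hr' with rfl | rfl
      · rw [commutatorElement_one_right]; exact one_mem _
      · refine hiv _ ?_ ?_ r' hv' (invol_inverts hv'2)
        · exact Coprime.commutator_le_left_of_normalizer (K := Q) (A := U ⊔ V) hQn
            (commutator_mem_commutator hq.1 hv'A)
        · exact commute_commutator hqu (h.commute hv'A huA)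
    · -- `b` is `v'` or `u v'`
      have hbv : ∃ v'' ∈ V, v'' ≠ 1 ∧ ∀ q ∈ Q, q * b = b * q →
          q * v'' = v'' * q ∧ ∀ w ∈ B, ⁅q, w⁆ = 1 ∨ ⁅q, w⁆ = ⁅q, u⁆ := by
        rcases mem_zpowers_invol hu2 ha with rfl | rfl <;>
          rcases mem_zpowers_invol hv'2 ha' with rfl | rfl
        · exact absurd hab.symm (by simpa using hb1)
        · refine ⟨a', hv', hv'1, fun q _ hqb => ⟨?_, fun w hw => ?_⟩⟩
          · rwa [← hab, one_mul] at hqb
          · rw [← hab, one_mul] at hqb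
            obtain ⟨r, hr, r', hr', rfl⟩ := (hBiff w).mp hw
            have e : ⁅q, r'⁆ = 1 := commutatorElement_eq_one_iff_mul_comm.mpr (by
              rcases mem_zpowers_invol hv'2 hr' with rfl | rfl
              · simp
              · exact hqb)
            rw [commutatorElement_mul_right_eq_mul_conj, e]
            rcases mem_zpowers_invol hu2 hr with rfl | rfl
            · left; simp
            · right; simp
        · exact absurd (hab.symm.trans (mul_one _)) hbu
        · refine ⟨v * a', mul_mem hv hv', fun e => hv'v ?_, fun q hqQ hqb => ⟨?_, fun w hw => ?_⟩⟩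
          · rw [← h.four₂.inv_eq hv]; exact (inv_eq_of_mul_eq_one_right e).symm
          · rw [← hab] at hqb
            have e : v * a' = (a * v) * (a * a') := by
              calc v * a' = (a * a) * v * a' := by rw [hu2, one_mul]
                _ = a * (a * v) * a' := by group
                _ = a * (v * a) * a' := by rw [huv]
                _ = _ := by group
            rw [e]
            exact ((show Commute q (a * v) from cCore_commute hqQ).mul_right hqb).eq
          · rw [← hab] at hqb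
            obtain ⟨r, hr, r', hr', rfl⟩ := (hBiff w).mp hw
            have e : ⁅q, a'⁆ = ⁅q, a⁆ := by
              have := commutator_prod_eq hu2 hv'2 hqb
              exact this.symm
            rcases mem_zpowers_invol hu2 hr with rfl | rfl <;>
              rcases mem_zpowers_invol hv'2 hr' with rfl | rfl
            · left; simp
            · right; rw [one_mul]; exact e
            · right; rw [mul_one]
            · left; exact commutatorElement_eq_one_iff_mul_comm.mpr hqb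
      obtain ⟨v'', hv'', hv''1, hbv⟩ := hbv
      have hv''A : v'' ∈ U ⊔ V := mem_sup_right hv''
      have hz'' : z ∈ cCore v'' := by
        refine (commutator_le (H₁ := Q ⊓ centralizer {b})).mpr (fun q hq w hw => ?_) hz.1
        obtain ⟨hqv, hq'⟩ := hbv q hq.1 (mem_centralizer_singleton_iff.mp hq.2)
        rcases hq' w hw with e | e <;> rw [e]
        · exact one_mem _
        refine c.mem_core_inverted (h.centralizer_ne_top c hv''A hv''1) (h.sub₁ u hu) (h.sub₂ v hv)
          huv (h.commute huA hv''A) (h.commute hvA hv''A) ?_ ?_ (h.sub₁ u hu) (h.commute huA hv''A)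
          (invol_inverts hu2) (h.sub₂ v hv) (h.commute hvA hv''A) ?_
        · exact Coprime.commutator_le_left_of_normalizer (K := Q) (A := U ⊔ V) hQn
            (commutator_mem_commutator hq.1 huA)
        · exact commute_commutator hqv (h.commute huA hv''A)
        · rw [commutator_prod_eq hu2 hv2 (cCore_commute hq.1)]
          exact invol_inverts hv2
      exact c.symm.mem_core_prod_inf (h.sub₂ v hv) hv1 (h.sub₁ u hu) huv.symm (huv ▸ hzQ)
        (hcv z hzQ hzu) (h.sub₂ v'' hv'') (h.four₂.comm hv'' hv) hz''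
  intro z hz
  set K := ⁅Q, zpowers u⁆ ⊓ centralizer {u} with hK
  have hKQ : K ≤ Q := inf_le_left.trans (Coprime.commutator_le_left_of_normalizer
    ((zpowers_le.mpr huA).trans hQn))
  have hKA : U ⊔ V ≤ normalizer (K : Set G) := fun a ha => mem_normalizer_inf
    (Coprime.mem_normalizer_commutator (hQn ha) (centralizer_le_normalizer _
      (mem_centralizer_zpowers (h.commute ha huA))))
    (le_normalizer (h.le_centralizer huA ha))
  have hdec := h.decompose (E := zpowers v') (zpowers_le.mpr hv'A)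
    (hQodd.of_dvd_nat (Subgroup.card_dvd_of_le hKQ)) ((zpowers_le.mpr hv'A).trans hKA)
  rw [← hdec] at hz
  suffices hle : ⁅K, zpowers v'⁆ ⊔ (K ⊓ centralizer (zpowers v' : Set G)) ≤ cCore v from hle hz
  refine sup_le ?_ ?_
  · refine commutator_le.mpr fun e he w hw => ?_
    rcases mem_zpowers_invol hv'2 hw with rfl | rfl
    · rw [commutatorElement_one_right]; exact one_mem _
    · have hmem := Coprime.commutator_le_left_of_normalizer hKA (commutator_mem_commutator he hv'A)
      exact hiv _ (hKQ hmem) (mem_centralizer_singleton_iff.mp hmem.2) w hv' (invol_inverts hv'2)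
  · intro e he
    refine (hR ⟨commutator_mono le_rfl le_sup_left he.1.1, mem_centralizer_iff.mpr fun b hb => ?_⟩).2
    obtain ⟨r, hr, r', hr', rfl⟩ := (hBiff b).mp hb
    have h1 : Commute r e := mem_centralizer_iff.mp
      (mem_centralizer_zpowers (mem_centralizer_singleton_iff.mp he.1.2)) r hr
    have h2 : Commute r' e := mem_centralizer_iff.mp he.2 r' hr'
    exact (h1.mul_left h2).eq

/-- The signalizer at a product. -/
noncomputable def thetaProd (u v : G) : Subgroup G :=
  ⁅cCore (u * v), zpowers u⁆ ⊔ (cCore u ⊓ cCore v)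

theorem thetaProd_balanced (c : Cfg S T₁ T₂) (h : Frame T₁ T₂ U V) {u v : G} (hu : u ∈ U)
    (hu1 : u ≠ 1) (hv : v ∈ V) (hv1 : v ≠ 1) :
    Balanced (U ⊔ V) (u * v) (thetaProd u v) ∧
      ∀ X, Balanced (U ⊔ V) (u * v) X → X ≤ thetaProd u v := by
  set Q := cCore (u * v) with hQ
  have hQodd : Odd (Nat.card Q) := odd_cCore _
  have huA : u ∈ U ⊔ V := mem_sup_left hu
  have hvA : v ∈ U ⊔ V := mem_sup_right hv
  have huvA : u * v ∈ U ⊔ V := mul_mem huA hvA
  have hu2 := h.four₁.sq u hu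
  have hv2 := h.four₂.sq v hv
  have huv : u * v = v * u := h.comm u hu v hv
  have hz : zpowers u ≤ U ⊔ V := zpowers_le.mpr huA
  have hQn : U ⊔ V ≤ normalizer (Q : Set G) := fun a ha =>
    mem_normalizer_cCore (h.commute ha huvA)
  have huv1 : u * v ≠ 1 := fun e => hv1 (h.eq_one c (by
    rw [← inv_eq_of_mul_eq_one_right e]; exact inv_mem hu) hv)
  have hWQ : cCore u ⊓ cCore v ≤ Q := fun e he =>
    c.mem_core_inf (h.centralizer_ne_top c huvA huv1) (h.sub₁ u hu) (h.sub₂ v hv)
      (h.commute huA huvA) (h.commute hvA huvA) he.1 he.2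
      ((show Commute e u from cCore_commute he.1).mul_right (cCore_commute he.2)).eq
  have hle : thetaProd u v ≤ Q :=
    sup_le (Coprime.commutator_le_left_of_normalizer (hz.trans hQn)) hWQ
  have hcc : ∀ a b : G, a * u = u * a → b = v → a * (u * v) = u * v * a → a * v = v * a := by
    intro a b hau _ hauv
    have := (show Commute a u from hau).mul_right (show Commute a (u * v) from hauv)
    rwa [← mul_assoc, hu2, one_mul] at this
  have hC : thetaProd u v ⊓ centralizer {u} ≤ cCore u ⊓ cCore v := by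
    rintro e ⟨he, heu⟩
    have hWn : cCore u ⊓ cCore v ≤ normalizer ((⁅Q, zpowers u⁆ : Subgroup G) : Set G) :=
      fun g hg => normalizer_commutator_ge_left Q (zpowers u) (hWQ hg)
    obtain ⟨m, hm, w, hw, rfl⟩ := (Coprime.mem_sup_iff hWn).mp he
    have hmu : m ∈ centralizer ({u} : Set G) := by
      have := (centralizer ({u} : Set G)).mul_mem heu
        ((centralizer ({u} : Set G)).inv_mem (cCore_le u hw.1))
      simpa using this
    refine mul_mem ⟨?_, prod_fixed_le c h hu hu1 hv hv1 ⟨hm, hmu⟩⟩ hw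
    refine prod_fixed_le c.symm h.symm hv hv1 hu hu1 ⟨?_, ?_⟩
    · rw [← huv]
      refine commutator_le.mpr (fun q hq w hw => ?_) hm
      rcases mem_zpowers_invol hu2 hw with rfl | rfl
      · rw [commutatorElement_one_right]; exact one_mem _
      · rw [commutator_prod_eq hu2 hv2 (cCore_commute hq)]
        exact commutator_mem_commutator hq (mem_zpowers v)
    · exact mem_centralizer_singleton_iff.mpr (hcc m v (mem_centralizer_singleton_iff.mp hmu) rfl
        (cCore_commute (Coprime.commutator_le_left_of_normalizer (hz.trans hQn) hm)))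
  have hA : U ⊔ V ≤ normalizer (thetaProd u v : Set G) := fun a ha =>
    mem_normalizer_sup (Coprime.mem_normalizer_commutator (hQn ha)
        (centralizer_le_normalizer _ (mem_centralizer_zpowers (h.commute ha huA))))
      (mem_normalizer_inf (mem_normalizer_cCore (h.commute ha huA))
        (mem_normalizer_cCore (h.commute ha hvA)))
  refine ⟨⟨hle, hA, fun w hw hw1 => ?_⟩, fun X hX => ?_⟩
  · set X := thetaProd u v ⊓ centralizer {w} with hX
    have hXA : U ⊔ V ≤ normalizer (X : Set G) := fun a ha =>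
      mem_normalizer_inf (hA ha) (le_normalizer (h.le_centralizer hw ha))
    rw [← h.decompose (X := X) hz (hQodd.of_dvd_nat (Subgroup.card_dvd_of_le (inf_le_left.trans hle)))
      (hz.trans hXA)]
    refine sup_le (commutator_le.mpr fun e he z hz' => ?_) fun e he => ?_
    · rcases mem_zpowers_invol hu2 hz' with rfl | rfl
      · rw [commutatorElement_one_right]; exact one_mem _
      have hmem := Coprime.commutator_le_left_of_normalizer hXA (commutator_mem_commutator he huA)
      refine c.mem_core_inverted (h.centralizer_ne_top c hw hw1) (h.sub₁ z hu) (h.sub₂ v hv) huv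
        (h.commute huA hw) (h.commute hvA hw) (hle hmem.1) (mem_centralizer_singleton_iff.mp hmem.2)
        (h.sub₁ z hu) (h.commute huA hw) (invol_inverts hu2) (h.sub₂ v hv) (h.commute hvA hw) ?_
      rw [commutator_prod_eq hu2 hv2 (cCore_commute (hle he.1))]
      exact invol_inverts hv2
    · have h1 := hC ⟨he.1.1, mem_centralizer_singleton_iff.mpr
        (mem_centralizer_iff.mp he.2 u (mem_zpowers u)).symm⟩
      exact c.mem_core_inf (h.centralizer_ne_top c hw hw1) (h.sub₁ u hu) (h.sub₂ v hv)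
        (h.commute huA hw) (h.commute hvA hw) h1.1 h1.2 (mem_centralizer_singleton_iff.mp he.1.2)
  · rw [← h.decompose hz (hQodd.of_dvd_nat (Subgroup.card_dvd_of_le hX.1)) (hz.trans hX.2.1)]
    refine sup_le ((commutator_mono hX.1 le_rfl).trans le_sup_left) fun e he => mem_sup_right ?_
    have heu : e * u = u * e := (mem_centralizer_iff.mp he.2 u (mem_zpowers u)).symm
    have hev : e * v = v * e := hcc e v heu rfl (cCore_commute (hX.1 he.1))
    exact ⟨hX.2.2 u huA hu1 ⟨he.1, mem_centralizer_singleton_iff.mpr heu⟩,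
      hX.2.2 v hvA hv1 ⟨he.1, mem_centralizer_singleton_iff.mpr hev⟩⟩

theorem theta_prod (c : Cfg S T₁ T₂) (h : Frame T₁ T₂ U V) {u v : G} (hu : u ∈ U) (hu1 : u ≠ 1)
    (hv : v ∈ V) (hv1 : v ≠ 1) : theta (U ⊔ V) (u * v) = thetaProd u v :=
  le_antisymm (sSup_le (thetaProd_balanced c h hu hu1 hv hv1).2)
    (le_theta (thetaProd_balanced c h hu hu1 hv hv1).1)

theorem theta_balanced (c : Cfg S T₁ T₂) (h : Frame T₁ T₂ U V) {x : G} (hx : x ∈ U ⊔ V)
    (hx1 : x ≠ 1) : Balanced (U ⊔ V) x (theta (U ⊔ V) x) := by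
  obtain ⟨u, hu, v, hv, rfl⟩ := h.mem_iff.mp hx
  by_cases hu1 : u = 1
  · subst hu1
    rw [one_mul] at hx1 ⊢
    rw [theta_side₂ c h hv hx1, sup_comm]
    exact (thetaSide_balanced c.symm h.symm hv hx1).1
  by_cases hv1 : v = 1
  · subst hv1
    rw [mul_one] at hx1 ⊢
    rw [theta_side c h hu hx1]
    exact (thetaSide_balanced c h hu hx1).1
  rw [theta_prod c h hu hu1 hv hv1]
  exact (thetaProd_balanced c h hu hu1 hv hv1).1

theorem gen_spec (c : Cfg S T₁ T₂) (h : Frame T₁ T₂ U V) :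
    Odd (Nat.card (gen (U ⊔ V))) ∧
      ∀ a ∈ U ⊔ V, a ≠ 1 → gen (U ⊔ V) ⊓ centralizer {a} = theta (U ⊔ V) a := by
  haveI : Fact (Nat.Prime 2) := ⟨Nat.prime_two⟩
  have hodd : ∀ a, Odd (Nat.card (theta (U ⊔ V) a)) := fun a =>
    (odd_cCore a).of_dvd_nat (Subgroup.card_dvd_of_le (theta_le_cCore _ _))
  have hd : U ⊓ V = ⊥ := eq_bot_iff.mpr fun z hz => mem_bot.mpr (h.eq_one c hz.1 hz.2)
  have hcard : Nat.card ↥(U ⊔ V) = 16 := by
    rw [Coprime.card_sup (fun v hv => centralizer_le_normalizer _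
      (mem_centralizer_iff.mpr fun u hu => h.comm u hu v hv)) hd, h.four₁.card, h.four₂.card]
  obtain ⟨h1, h2⟩ := Cfsg.Agent.S0217.result (p := 2) (U ⊔ V) (fun a ha b hb => h.commute ha hb)
    (fun a ha => by rw [pow_two]; exact h.sq ha) (by rw [hcard]; norm_num) (theta (U ⊔ V))
    (fun a _ _ => (theta_le_cCore _ _).trans (cCore_le a))
    (fun a _ _ => (Nat.not_even_iff_odd.mpr (hodd a)) ∘ fun hd => even_iff_two_dvd.mpr hd)
    (fun a ha ha1 b hb x hx => Coprime.conj_mem ((theta_balanced c h ha ha1).2.1 hb) hx)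
    (fun a _ _ => Cfsg.Agent.S0205.result (hodd a))
    (fun a ha ha1 b hb hb1 => le_theta ⟨(theta_balanced c h ha ha1).2.2 b hb hb1,
      fun z hz => mem_normalizer_inf ((theta_balanced c h ha ha1).2.1 hz)
        (le_normalizer (h.le_centralizer hb hz)),
      fun w hw hw1 => (inf_le_inf_right _ inf_le_left).trans
        ((theta_balanced c h ha ha1).2.2 w hw hw1)⟩)
  exact ⟨Nat.odd_iff.mpr (Nat.two_dvd_ne_zero.mp h1), h2⟩

theorem le_normalizer_gen (c : Cfg S T₁ T₂) (h : Frame T₁ T₂ U V) :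
    U ⊔ V ≤ normalizer (gen (U ⊔ V) : Set G) := fun a ha => by
  refine H48.mem_normalizer_of_cj_eq (H48.cj_eq_self_of_le (Subgroup.map_le_iff_le_comap.mpr ?_))
  refine iSup_le fun b z hz => ?_
  exact theta_le_gen b.2.1 b.2.2 (Coprime.conj_mem ((theta_balanced c h b.2.1 b.2.2).2.1 ha) hz)

/-- `gen` is generated by the signalizers at the points of any four subgroup. -/
theorem gen_le_of_four (c : Cfg S T₁ T₂) (h : Frame T₁ T₂ U V) {B M : Subgroup G} (hB : IsFour B)
    (hBA : B ≤ U ⊔ V) (hM : ∀ b ∈ B, b ≠ 1 → theta (U ⊔ V) b ≤ M) : gen (U ⊔ V) ≤ M := by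
  haveI := hB.isMulCommutative
  refine Coprime.le_of_centralizer_noncyclic_le hB.not_isCyclic (hBA.trans (le_normalizer_gen c h))
    (hB.coprime (gen_spec c h).1) fun b hb hb1 => ?_
  rw [(gen_spec c h).2 b (hBA hb) hb1]
  exact hM b hb hb1

theorem cj_balanced {A X : Subgroup G} {x : G} (g : G) (h : Balanced A x X) :
    Balanced (H48.cj g A) (g * x * g⁻¹) (H48.cj g X) := by
  refine ⟨(H48.cj_mono h.1).trans (cj_cCore g x).le, ?_, ?_⟩
  · rw [← H48.cj_normalizer]; exact H48.cj_mono h.2.1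
  · rintro _ ⟨w, hw, rfl⟩ hw1
    intro z hz
    have hw1' : w ≠ 1 := fun e => hw1 (by rw [e]; simp)
    show z ∈ cCore (g * w * g⁻¹)
    rw [← cj_cCore, H48.mem_cj]
    refine h.2.2 w hw hw1' ⟨H48.mem_cj.mp hz.1, mem_centralizer_singleton_iff.mpr ?_⟩
    have hzw : z * (g * w * g⁻¹) = g * w * g⁻¹ * z := mem_centralizer_singleton_iff.mp hz.2
    calc g⁻¹ * z * g * w = g⁻¹ * (z * (g * w * g⁻¹)) * g := by group
      _ = _ := by rw [hzw]; group

theorem cj_gen_le (g : G) (A : Subgroup G) : H48.cj g (gen A) ≤ gen (H48.cj g A) := by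
  refine Subgroup.map_le_iff_le_comap.mpr (iSup_le fun a => sSup_le fun X hX => ?_)
  refine Subgroup.map_le_iff_le_comap.mp ((le_theta (cj_balanced g hX)).trans
    (theta_le_gen (H48.conj_mem_cj a.2.1) fun e => a.2.2 ?_))
  have : (a : G) = g⁻¹ * (g * (a : G) * g⁻¹) * g := by group
  rw [this, e]; group

theorem cj_gen (g : G) (A : Subgroup G) : H48.cj g (gen A) = gen (H48.cj g A) := by
  refine le_antisymm (cj_gen_le g A) ?_
  have h := H48.cj_mono (g := g) (cj_gen_le g⁻¹ (H48.cj g A))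
  rwa [H48.cj_cj_inv, H48.cj_inv_cj] at h

theorem gen_share_le (c : Cfg S T₁ T₂) {U' : Subgroup G} (h : Frame T₁ T₂ U V)
    (h' : Frame T₁ T₂ U' V) {a : G} (ha : a ∈ U) (ha' : a ∈ U') (ha1 : a ≠ 1) :
    gen (U ⊔ V) ≤ gen (U' ⊔ V) := by
  refine gen_le_of_four c h h.four₂ le_sup_right fun v hv hv1 => ?_
  have hz : zpowers a ≤ U ⊔ V := zpowers_le.mpr (mem_sup_left ha)
  rw [← h.decompose hz ((odd_cCore v).of_dvd_nat (Subgroup.card_dvd_of_le (theta_le_cCore _ v)))
    (hz.trans (theta_balanced c h (mem_sup_right hv) hv1).2.1)]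
  refine sup_le ?_ ?_
  · refine le_trans ?_ (theta_le_gen (mem_sup_right hv) hv1)
    rw [theta_side₂ c h' hv hv1]
    exact (commutator_mono (theta_le_cCore _ v) (zpowers_le.mpr ha')).trans le_sup_left
  · refine le_trans ?_ (theta_le_gen (mem_sup_left ha') ha1)
    rw [theta_side c h' ha' ha1, ← theta_side c h ha ha1,
      ← (gen_spec c h).2 a (mem_sup_left ha) ha1]
    refine inf_le_inf (theta_le_gen (mem_sup_right hv) hv1) fun z hz => ?_
    exact mem_centralizer_singleton_iff.mpr (mem_centralizer_iff.mp hz a (mem_zpowers a)).symm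

theorem gen_share (c : Cfg S T₁ T₂) {U' : Subgroup G} (h : Frame T₁ T₂ U V)
    (h' : Frame T₁ T₂ U' V) {a : G} (ha : a ∈ U) (ha' : a ∈ U') (ha1 : a ≠ 1) :
    gen (U ⊔ V) = gen (U' ⊔ V) :=
  le_antisymm (gen_share_le c h h' ha ha' ha1) (gen_share_le c h' h ha' ha ha1)

/-- `O(C(a))` normalizes `gen`, for `a` in `U`. -/
theorem cCore_le_normalizer_gen (c : Cfg S T₁ T₂) (h : Frame T₁ T₂ U V) {a : G} (ha : a ∈ U)
    (ha1 : a ≠ 1) : cCore a ≤ normalizer (gen (U ⊔ V) : Set G) := by
  have hV : V ≤ normalizer (cCore a : Set G) := fun v hv =>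
    mem_normalizer_cCore (h.comm a ha v hv).symm
  rw [← h.decompose le_sup_right (odd_cCore a) hV]
  refine sup_le ?_ fun g hg => ?_
  · refine le_trans ?_ le_normalizer
    refine le_trans ?_ (theta_le_gen (mem_sup_left ha) ha1)
    rw [theta_side c h ha ha1]
    exact le_sup_left
  · have hga : g * a * g⁻¹ = a := by rw [cCore_commute hg.1]; group
    have hgV : ∀ v ∈ V, g * v * g⁻¹ = v := fun v hv => by
      rw [← mem_centralizer_iff.mp hg.2 v hv]; group
    have hcV : H48.cj g V = V := H48.cj_eq_of_mem_normalizer (centralizer_le_normalizer _ hg.2)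
    have h' : Frame T₁ T₂ (H48.cj g U) V := by
      refine ⟨⟨by rw [H48.card_cj]; exact h.four₁.card, ?_⟩, h.four₂, ?_, h.sub₂, ?_⟩
      · rintro _ ⟨u, hu, rfl⟩
        rw [← map_mul, h.four₁.sq u hu, map_one]
      · rintro _ ⟨u, hu, rfl⟩
        exact conj_mem_conjs (h.sub₁ u hu) g
      · rintro _ ⟨u, hu, rfl⟩ v hv
        show g * u * g⁻¹ * v = v * (g * u * g⁻¹)
        calc g * u * g⁻¹ * v = g * u * g⁻¹ * (g * v * g⁻¹) := by rw [hgV v hv]
          _ = g * (u * v) * g⁻¹ := by group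
          _ = g * (v * u) * g⁻¹ := by rw [h.comm u hu v hv]
          _ = (g * v * g⁻¹) * (g * u * g⁻¹) := by group
          _ = _ := by rw [hgV v hv]
    refine H48.mem_normalizer_of_cj_eq ?_
    rw [cj_gen, show H48.cj g (U ⊔ V) = H48.cj g U ⊔ H48.cj g V from Subgroup.map_sup _ _ _, hcV]
    exact gen_share c h' h (by simpa [hga] using H48.conj_mem_cj (g := g) ha) ha ha1

theorem gen_le_normalizer_gen (c : Cfg S T₁ T₂) {V' : Subgroup G} (h : Frame T₁ T₂ U V)
    (h' : Frame T₁ T₂ U V') : gen (U ⊔ V') ≤ normalizer (gen (U ⊔ V) : Set G) :=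
  gen_le_of_four c h' h.four₁ le_sup_left fun u hu hu1 =>
    (theta_le_cCore _ u).trans (cCore_le_normalizer_gen c h hu hu1)

/-- Any two frames through `a` give mutually normalizing subgroups. -/
theorem gen_le_normalizer_gen' (c : Cfg S T₁ T₂) {U' V' : Subgroup G} (h : Frame T₁ T₂ U V)
    (h' : Frame T₁ T₂ U' V') {a : G} (ha : a ∈ U) (ha' : a ∈ U') (ha1 : a ≠ 1) :
    gen (U' ⊔ V') ≤ normalizer (gen (U ⊔ V) : Set G) := by
  haveI : Fact (Nat.Prime 2) := ⟨Nat.prime_two⟩
  set O := cCore a with hO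
  set L := centralizer ({a} : Set G) with hL
  have hU'L : ∀ u ∈ U', u * a = a * u := fun u hu => h'.four₁.comm hu ha'
  have hVL : ∀ v ∈ V, v * a = a * v := fun v hv => (h.comm a ha v hv).symm
  have hne : L ≠ ⊤ := c.centralizer_ne_top (h.sub₁ a ha) ha1
  have hU'O : U' ≤ normalizer (O : Set G) := fun u hu => mem_normalizer_cCore (hU'L u hu)
  have hVM : V ≤ normalizer ((O ⊔ U' : Subgroup G) : Set G) := by
    intro v hv
    have hvO : v ∈ normalizer (O : Set G) := mem_normalizer_cCore (hVL v hv)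
    refine H48.mem_normalizer_of_cj_eq (H48.cj_eq_self_of_le (Subgroup.map_le_iff_le_comap.mpr ?_))
    refine sup_le (fun z hz => mem_sup_left (Coprime.conj_mem hvO hz)) fun u hu => ?_
    have h1 : ⁅v, u⁆ ∈ O := by
      have := c.pair.commutator_mem_of_subgroup (c.ih L hne) (h'.sub₁ u hu) (h.sub₂ v hv)
        (mem_centralizer_singleton_iff.mpr (hU'L u hu))
        (mem_centralizer_singleton_iff.mpr (hVL v hv))
      rw [← commutatorElement_inv]
      exact inv_mem this
    show v * u * v⁻¹ ∈ O ⊔ U'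
    have e : v * u * v⁻¹ = ⁅v, u⁆ * u := by rw [commutatorElement_def]; group
    rw [e]
    exact mul_mem (mem_sup_left h1) (mem_sup_right hu)
  set H := (O ⊔ U') ⊔ V with hH
  obtain ⟨R, hR, hVR⟩ := H48.exists_isSylowIn_ge (H := H) h.four₂.isPGroup le_sup_right
  obtain ⟨k, hkH, hk⟩ := hR.exists_cj_le h'.four₁.isPGroup (le_sup_right.trans le_sup_left)
  have hkinv : k ∈ ((O ⊔ U') ⊔ V : Subgroup G) := hkH
  obtain ⟨m, hm, v, hv, hmv⟩ := (Coprime.mem_sup_iff hVM).mp (inv_mem hkinv)
  obtain ⟨o, ho, u, hu, hou⟩ := (Coprime.mem_sup_iff hU'O).mp (inv_mem hm)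
  set q := o with hq
  have hqU : H48.cj q U' ≤ R := by
    rw [H48.cj_le]
    intro x hx
    have hx' : u⁻¹ * x * u ∈ U' := mul_mem (mul_mem (inv_mem hu) hx) hu
    have h1 := hk (H48.conj_mem_cj hx')
    have e : k = v⁻¹ * (q * u) := by
      rw [hou, ← inv_inv k, ← hmv, mul_inv_rev]
    have h2 := mul_mem (mul_mem (hVR hv) h1) (inv_mem (hVR hv))
    have e2 : v * (k * (u⁻¹ * x * u) * k⁻¹) * v⁻¹ = q * x * q⁻¹ := by rw [e]; group
    rwa [e2] at h2
  have hqa : q * a * q⁻¹ = a := by rw [cCore_commute ho]; group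
  have hF : Frame T₁ T₂ (H48.cj q U') V := by
    refine ⟨⟨by rw [H48.card_cj]; exact h'.four₁.card, ?_⟩, h.four₂, ?_, h.sub₂, ?_⟩
    · rintro _ ⟨x, hx, rfl⟩
      rw [← map_mul, h'.four₁.sq x hx, map_one]
    · rintro _ ⟨x, hx, rfl⟩
      exact conj_mem_conjs (h'.sub₁ x hx) q
    · rintro x hx w hw
      obtain ⟨y, hy, rfl⟩ := hx
      exact c.pair.commute_of_pgroup hR.isPGroup (conj_mem_conjs (h'.sub₁ y hy) q) (h.sub₂ w hw)
        (hqU ⟨y, hy, rfl⟩) (hVR hw)
  have hF' : Frame T₁ T₂ (H48.cj q U') (H48.cj q V') := by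
    refine ⟨hF.four₁, ⟨by rw [H48.card_cj]; exact h'.four₂.card, ?_⟩, hF.sub₁, ?_, ?_⟩
    · rintro _ ⟨x, hx, rfl⟩
      rw [← map_mul, h'.four₂.sq x hx, map_one]
    · rintro _ ⟨x, hx, rfl⟩
      exact conj_mem_conjs (h'.sub₂ x hx) q
    · rintro _ ⟨x, hx, rfl⟩ _ ⟨y, hy, rfl⟩
      rw [← map_mul, ← map_mul, h'.comm x hx y hy]
  have h1 := gen_le_normalizer_gen c hF hF'
  rw [gen_share c hF h (by simpa [hqa] using H48.conj_mem_cj (g := q) ha') ha ha1,
    ← Subgroup.map_sup] at h1
  change gen (H48.cj q (U' ⊔ V')) ≤ _ at h1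
  rw [← cj_gen] at h1
  intro z hz
  have h2 := h1 (H48.conj_mem_cj (g := q) hz)
  have hqN := cCore_le_normalizer_gen c h ha ha1 ho
  have h3 := mul_mem (mul_mem (inv_mem hqN) h2) hqN
  simpa [mul_assoc] using h3

end Cfsg.Agent.H52.Commuting
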