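import Cfsg.Agent.H52.Commuting.Basic
import Cfsg.Agent.Coprime.Centralize
import Cfsg.Agent.S0215

/-!
The reduced configuration, and criteria for an element of a centralizer to lie in its odd core.
-/

set_option autoImplicit false
set_option linter.style.haveILetI false

namespace Cfsg.Agent.H52.Commuting

open Subgroup
open Cfsg.Agent
open scoped commutatorElement

universe u

variable {G : Type u} [Group G]

/-- The odd core of the centralizer of `x`, inside `G`. -/
noncomputable def cCore (x : G) : Subgroup G :=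
  (Cfsg.oddCore (centralizer ({x} : Set G))).map (centralizer ({x} : Set G)).subtype

theorem cCore_le (x : G) : cCore x ≤ centralizer ({x} : Set G) := map_subtype_le _

theorem cCore_commute {x c : G} (hc : c ∈ cCore x) : c * x = x * c :=
  mem_centralizer_singleton_iff.mp (cCore_le x hc)

variable [Finite G]

theorem odd_cCore (x : G) : Odd (Nat.card (cCore x)) := by
  rw [cCore, Cores.card_map_eq _ (centralizer ({x} : Set G)).subtype_injective]
  exact Cores.odd_card_oddCore

theorem odd_orderOf {H : Subgroup G} (hH : Odd (Nat.card H)) {c : G} (hc : c ∈ H) :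
    Odd (orderOf c) :=
  hH.of_dvd_nat (H.orderOf_dvd_natCard hc)

theorem mem_normalizer_cCore {x g : G} (hg : g * x = x * g) :
    g ∈ normalizer (cCore x : Set G) := by
  haveI := Cores.pPrimeCore_characteristic (G := centralizer ({x} : Set G)) (p := 2)
  refine H48.mem_normalizer_of_cj_eq (H48.cj_eq_self_of_le (H48.cj_le.mpr ?_))
  rintro _ ⟨c, hc, rfl⟩
  exact ⟨⟨g, mem_centralizer_singleton_iff.mpr hg⟩ * c * ⟨g, mem_centralizer_singleton_iff.mpr hg⟩⁻¹,
    (inferInstance : (Cfsg.oddCore (centralizer ({x} : Set G))).Normal).conj_mem c hc _, by simp⟩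

theorem le_cCore {x : G} {K : Subgroup G} (hK : K ≤ centralizer ({x} : Set G))
    (hn : centralizer ({x} : Set G) ≤ normalizer (K : Set G)) (hodd : Odd (Nat.card K)) :
    K ≤ cCore x := by
  haveI : (K.subgroupOf (centralizer ({x} : Set G))).Normal :=
    (normal_subgroupOf_iff_le_normalizer hK).mpr hn
  intro k hk
  exact ⟨⟨k, hK hk⟩, Cores.le_oddCore (by
    rwa [Nat.card_congr (subgroupOfEquivOfLe hK).toEquiv]) (mem_subgroupOf.mpr hk), rfl⟩

theorem cj_cCore_le (g x : G) : H48.cj g (cCore x) ≤ cCore (g * x * g⁻¹) := by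
  refine le_cCore ?_ ?_ (by rw [H48.card_cj]; exact odd_cCore x)
  · rw [H48.cj_le]
    intro c hc
    have h := cCore_commute hc
    rw [mem_centralizer_singleton_iff]
    calc g * c * g⁻¹ * (g * x * g⁻¹) = g * (c * x) * g⁻¹ := by group
      _ = g * (x * c) * g⁻¹ := by rw [h]
      _ = _ := by group
  · intro k hk
    rw [mem_centralizer_singleton_iff] at hk
    rw [← H48.cj_normalizer, H48.mem_cj]
    refine mem_normalizer_cCore ?_
    calc g⁻¹ * k * g * x = g⁻¹ * (k * (g * x * g⁻¹)) * g := by group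
      _ = g⁻¹ * (g * x * g⁻¹ * k) * g := by rw [hk]
      _ = _ := by group

theorem cj_cCore (g x : G) : H48.cj g (cCore x) = cCore (g * x * g⁻¹) := by
  refine le_antisymm (cj_cCore_le g x) ?_
  have h := H48.cj_mono (g := g) (cj_cCore_le g⁻¹ (g * x * g⁻¹))
  rwa [H48.cj_cj_inv, show g⁻¹ * (g * x * g⁻¹) * g⁻¹⁻¹ = x by group] at h

/-- An odd subgroup normalized by a normal subgroup `M` meets it trivially, when `O = 1`. -/
theorem inf_eq_bot_of_core {L : Type*} [Group L] [Finite L] (hL : Cfsg.oddCore L = ⊥)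
    (M K : Subgroup L) [M.Normal] (hK : Odd (Nat.card K)) (hn : M ≤ normalizer (K : Set L)) :
    K ⊓ M = ⊥ := by
  haveI : ((K ⊓ M).subgroupOf M).Normal := (normal_subgroupOf_iff_le_normalizer inf_le_right).mpr
    fun m hm => by
      apply Coprime.mem_normalizer_of_map_conj
      rw [Subgroup.map_inf _ _ _ (MulAut.conj m).injective, Coprime.map_conj_eq (hn hm),
        Coprime.map_conj_eq (le_normalizer hm)]
  have hodd : Odd (Nat.card ((K ⊓ M).subgroupOf M)) := by
    rw [Nat.card_congr (subgroupOfEquivOfLe (inf_le_right : K ⊓ M ≤ M)).toEquiv]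
    exact hK.of_dvd_nat (Subgroup.card_dvd_of_le inf_le_left)
  have h1 := Subgroup.map_mono (f := M.subtype) (Cores.le_oddCore hodd)
  rw [subgroupOf_map_subtype, inf_of_le_left (inf_le_right : K ⊓ M ≤ M)] at h1
  have h2 : (Cfsg.oddCore M).map M.subtype ≤ Cfsg.oddCore L :=
    Cores.map_pPrimeCore_le_of_normal M
  rw [hL] at h2
  exact le_bot_iff.mp (h1.trans h2)

/-- The configuration left after the reductions. -/
structure Cfg (S : Sylow 2 G) (T₁ T₂ : Subgroup G) : Prop where
  pair : Pair S T₁ T₂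
  core : Cfsg.oddCore G = ⊥
  ih : ∀ H : Subgroup G, H ≠ ⊤ → CC H
  noW₁ : ∀ W : Subgroup G, W.Normal → W ≤ T₁ → W = ⊥
  noW₂ : ∀ W : Subgroup G, W.Normal → W ≤ T₂ → W = ⊥



variable {S : Sylow 2 G} {T₁ T₂ : Subgroup G}

theorem Cfg.symm (c : Cfg S T₁ T₂) : Cfg S T₂ T₁ :=
  ⟨c.pair.symm, c.core, c.ih, c.noW₂, c.noW₁⟩

/-- An element of `T₁` central in a normal subgroup containing it is trivial. -/
theorem Cfg.eq_one_of_center (c : Cfg S T₁ T₂) (N : Subgroup G) [N.Normal] {x : G} (hx : x ∈ T₁)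
    (hxN : x ∈ N) (hcen : ∀ n ∈ N, x * n = n * x) : x = 1 := by
  haveI : Fact (Nat.Prime 2) := ⟨Nat.prime_two⟩
  set Z := N ⊓ centralizer (N : Set G) with hZ
  have hxZ : x ∈ Z := ⟨hxN, mem_centralizer_iff.mpr fun n hn => (hcen n hn).symm⟩
  haveI : IsMulCommutative Z :=
    ⟨⟨fun a b => Subtype.ext (mem_centralizer_iff.mp b.2.2 a a.2.1)⟩⟩
  obtain ⟨P⟩ : Nonempty (Sylow 2 Z) := inferInstance
  haveI : (P : Subgroup Z).Normal := ⟨fun n hn g => by
    rw [mul_comm' g n, mul_inv_cancel_right]; exact hn⟩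
  haveI := P.characteristic_of_normal inferInstance
  haveI : Z.Normal := inferInstance
  haveI : ((P : Subgroup Z).map Z.subtype).Normal := Cores.map_subtype_normal
  set P₀ := (P : Subgroup Z).map Z.subtype with hP₀
  have hP₀S : P₀ ≤ (S : Subgroup G) := (P.isPGroup'.map Z.subtype).le_sylow_of_normal S
  have hxP : x ∈ P₀ := by
    have hp2 : IsPGroup 2 (zpowers (⟨x, hxZ⟩ : Z)) :=
      ((isPGroup_zpowers_conjs c.pair.le₁ (mem_conjs_self hx)).comap_subtype).to_le
        (K := (zpowers x).subgroupOf Z) (zpowers_le.mpr (mem_subgroupOf.mpr (mem_zpowers x)))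
    have h : (P : Subgroup Z) ⊔ zpowers (⟨x, hxZ⟩ : Z) = P :=
      P.is_maximal' (P.isPGroup'.to_sup_of_normal_left hp2) le_sup_left
    exact ⟨⟨x, hxZ⟩, by rw [← h]; exact mem_sup_right (mem_zpowers _), rfl⟩
  have hW : (P₀ ⊓ T₁).Normal := ⟨fun w hw g =>
    ⟨(inferInstance : P₀.Normal).conj_mem w hw.1 g,
      c.pair.closed₁.2 w hw.2 g (hP₀S ((inferInstance : P₀.Normal).conj_mem w hw.1 g))⟩⟩
  have h : x ∈ P₀ ⊓ T₁ := ⟨hxP, hx⟩
  rwa [c.noW₁ _ hW inf_le_right, mem_bot] at h

/-- A conjugate of an element of `T₁` which is central in `G` is trivial. -/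
theorem Cfg.eq_one_of_central (c : Cfg S T₁ T₂) {x : G} (hx : x ∈ Conjs T₁)
    (hcen : ∀ g : G, x * g = g * x) : x = 1 := by
  obtain ⟨k, t, ht, rfl⟩ := hx
  have e : k * t * k⁻¹ = t := by
    have := hcen k
    calc k * t * k⁻¹ = k⁻¹ * (k * (k * t * k⁻¹)) := by group
      _ = k⁻¹ * (k * t * k⁻¹ * k) := by rw [← this]
      _ = t := by group
  rw [e] at hcen ⊢
  exact c.eq_one_of_center ⊤ ht (mem_top _) fun n _ => hcen n

theorem Cfg.centralizer_ne_top (c : Cfg S T₁ T₂) {x : G} (hx : x ∈ Conjs T₁) (h1 : x ≠ 1) :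
    centralizer ({x} : Set G) ≠ ⊤ := fun h =>
  h1 (c.eq_one_of_central hx fun g => (mem_centralizer_singleton_iff.mp (h ▸ mem_top g)).symm)

/-- The product of commuting involutions from the two sides is not central. -/
theorem Cfg.prod_not_central (c : Cfg S T₁ T₂) {a b : G} (ha : a ∈ Conjs T₁) (hb : b ∈ Conjs T₂)
    (ha1 : a ≠ 1) (ha2 : a * a = 1) (hb2 : b * b = 1) (hab : a * b = b * a) :
    ¬ ∀ g : G, (a * b) * g = g * (a * b) := by
  intro hz
  haveI : Fact (Nat.Prime 2) := ⟨Nat.prime_two⟩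
  obtain ⟨P, hP⟩ := (isPGroup_pair (isPGroup_zpowers_conjs c.pair.le₁ ha)
    (isPGroup_zpowers_conjs c.pair.le₂ hb) hab).exists_le_sylow
  have haP : a ∈ (P : Subgroup G) := hP (mem_sup_left (mem_zpowers a))
  have hzP : a * b ∈ (P : Subgroup G) := mul_mem haP (hP (mem_sup_right (mem_zpowers b)))
  have hord : orderOf a = 2 := orderOf_eq_prime (by rw [pow_two]; exact ha2) ha1
  obtain ⟨N, hN, hNodd, hNc⟩ := Cfsg.Agent.S0215.result P a hord haP (fun g hg => by
    set a' := g * a * g⁻¹ with ha'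
    have h1 : a' * a ∈ Conjs T₁ :=
      mul_mem_conjs_of_pgroup c.pair.closed₁ P.isPGroup' (conj_mem_conjs ha g) ha hg haP
    have hza : (a * b) * a = b := by
      rw [hab, mul_assoc, ha2, mul_one]
    have hza' : (a * b) * a' = g * b * g⁻¹ := by
      calc (a * b) * a' = (a * b) * g * a * g⁻¹ := by rw [ha']; group
        _ = g * ((a * b) * a) * g⁻¹ := by rw [hz g]; group
        _ = _ := by rw [hza]
    have hbP : b ∈ (P : Subgroup G) := hP (mem_sup_right (mem_zpowers b))
    have h2 : ((a * b) * a') * b ∈ Conjs T₂ := by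
      refine mul_mem_conjs_of_pgroup c.pair.closed₂ P.isPGroup' ?_ hb (mul_mem hzP hg) hbP
      rw [hza']
      exact conj_mem_conjs hb g
    have e : ((a * b) * a') * b = a' * a := by
      calc ((a * b) * a') * b = a' * (a * b) * b := by rw [hz a']
        _ = a' * a * (b * b) := by group
        _ = _ := by rw [hb2, mul_one]
    rw [e] at h2
    have := c.pair.eq_one h1 h2
    rw [mul_eq_one_iff_eq_inv] at this
    rw [this, inv_eq_of_mul_eq_one_right ha2])
  haveI := hN
  have hN' : N = ⊥ := le_bot_iff.mp (c.core ▸ Cores.le_oddCore hNodd)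
  refine ha1 (c.eq_one_of_central ha fun g => ?_)
  have := hNc g
  rw [hN', mem_bot, mul_inv_eq_one, mul_inv_eq_iff_eq_mul] at this
  exact this

/-! ### Criteria inside a centralizer -/

/-- `c` centralizes the conjugates of `T` lying in `C(x)` modulo `O(C(x))`. -/
def Fix (T : Subgroup G) (x c : G) : Prop :=
  c * x = x * c ∧ ∀ g ∈ Conjs T, g * x = x * g → ⁅c, g⁆ ∈ cCore x

/-- The conjugates of `T` lying in `C(x)`, modulo `O(C(x))`. -/
def barConjs (T : Subgroup G) (x : G) :
    Set (centralizer ({x} : Set G) ⧸ Cfsg.oddCore (centralizer ({x} : Set G))) :=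
  {q | ∃ g : centralizer ({x} : Set G), (g : G) ∈ Conjs T ∧
    (QuotientGroup.mk' (Cfsg.oddCore (centralizer ({x} : Set G)))) g = q}

theorem barConjs_conj {T : Subgroup G} {x : G}
    {q : centralizer ({x} : Set G) ⧸ Cfsg.oddCore (centralizer ({x} : Set G))}
    (hq : q ∈ barConjs T x) (l : centralizer ({x} : Set G) ⧸ Cfsg.oddCore (centralizer ({x} : Set G))) :
    l * q * l⁻¹ ∈ barConjs T x := by
  obtain ⟨g, hg, rfl⟩ := hq
  obtain ⟨k, rfl⟩ := QuotientGroup.mk'_surjective _ l
  exact ⟨k * g * k⁻¹, by simpa using conj_mem_conjs hg (k : G), by simp⟩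

theorem commutator_mem_iff {x : G} (a b : centralizer ({x} : Set G)) :
    ⁅(a : G), (b : G)⁆ ∈ cCore x ↔
      Commute (QuotientGroup.mk' (Cfsg.oddCore (centralizer ({x} : Set G))) a)
        (QuotientGroup.mk' (Cfsg.oddCore (centralizer ({x} : Set G))) b) := by
  rw [commute_iff_eq, ← commutatorElement_eq_one_iff_mul_comm, ← map_commutatorElement,
    QuotientGroup.mk'_apply, QuotientGroup.eq_one_iff]
  constructor
  · rintro ⟨d, hd, e⟩
    rwa [show ⁅a, b⁆ = d from Subtype.ext (by rw [show (d : G) = _ from e]; simp [commutatorElement_def])]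
  · exact fun h => ⟨_, h, by simp [commutatorElement_def]⟩

theorem Fix.commute {T : Subgroup G} {x c : G} (h : Fix T x c)
    (q : centralizer ({x} : Set G) ⧸ Cfsg.oddCore (centralizer ({x} : Set G)))
    (hq : q ∈ barConjs T x) :
    Commute (QuotientGroup.mk' (Cfsg.oddCore (centralizer ({x} : Set G)))
      ⟨c, mem_centralizer_singleton_iff.mpr h.1⟩) q := by
  obtain ⟨g, hg, rfl⟩ := hq
  exact (commutator_mem_iff ⟨c, mem_centralizer_singleton_iff.mpr h.1⟩ g).mp
    (h.2 g hg (mem_centralizer_singleton_iff.mp g.2))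

/-- Conjugates from the two sides lying in a proper centralizer commute modulo its odd core. -/
theorem Cfg.commute_bar (c : Cfg S T₁ T₂) {x : G} (hx : centralizer ({x} : Set G) ≠ ⊤)
    {q r : centralizer ({x} : Set G) ⧸ Cfsg.oddCore (centralizer ({x} : Set G))}
    (hq : q ∈ barConjs T₁ x) (hr : r ∈ barConjs T₂ x) : Commute q r := by
  obtain ⟨g, hg, rfl⟩ := hq
  obtain ⟨g', hg', rfl⟩ := hr
  exact (commutator_mem_iff g g').mp
    (c.pair.commutator_mem_of_subgroup (c.ih _ hx) hg hg' g.2 g'.2)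

/-- The image of `O(C(y)) ∩ C(x)` in `C(x)/O(C(x))`, for a 2-element `y` of `C(x)`. -/
theorem bar_core_facts {x y : G} (hy : IsPGroup 2 (zpowers y)) (hyx : y * x = x * y) :
    Odd (Nat.card (((cCore y).subgroupOf (centralizer ({x} : Set G))).map
      (QuotientGroup.mk' (Cfsg.oddCore (centralizer ({x} : Set G)))))) ∧
    ∀ l, Commute l (QuotientGroup.mk' (Cfsg.oddCore (centralizer ({x} : Set G)))
        ⟨y, mem_centralizer_singleton_iff.mpr hyx⟩) →
      l ∈ normalizer ((((cCore y).subgroupOf (centralizer ({x} : Set G))).map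
        (QuotientGroup.mk' (Cfsg.oddCore (centralizer ({x} : Set G))))) : Set _) := by
  haveI : Fact (Nat.Prime 2) := ⟨Nat.prime_two⟩
  set Γ := centralizer ({x} : Set G) with hΓ
  set N := Cfsg.oddCore Γ with hN
  set f := QuotientGroup.mk' N with hf
  set yy : Γ := ⟨y, mem_centralizer_singleton_iff.mpr hyx⟩ with hyy
  refine ⟨?_, fun l hl => ?_⟩
  · refine Odd.of_dvd_nat ?_ (Subgroup.card_map_dvd _ _)
    refine (odd_cCore y).of_dvd_nat ?_
    exact Subgroup.card_comap_dvd_of_injective _ _ Γ.subtype_injective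
  · obtain ⟨k, rfl⟩ := QuotientGroup.mk'_surjective N l
    have hNΓ : zpowers yy ≤ normalizer (N : Set Γ) := by
      rw [normalizer_eq_top]; exact le_top
    have hp2 : IsPGroup 2 (zpowers yy) := hy.comap_subtype.to_le
      (K := (zpowers y).subgroupOf Γ) (zpowers_le.mpr (mem_subgroupOf.mpr (mem_zpowers y)))
    obtain ⟨n, hn, hkn⟩ := Coprime.exists_commute_mem_coset hp2 hNΓ
      Cores.not_dvd_card_pPrimeCore (k := k) (fun a ha => by
        obtain ⟨i, rfl⟩ := mem_zpowers_iff.mp ha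
        refine (QuotientGroup.eq_one_iff _).mp ?_
        show f (k⁻¹ * (yy ^ i * k * (yy ^ i)⁻¹)) = 1
        have h1 : Commute (f k) (f yy ^ i) := hl.zpow_right i
        rw [map_mul, map_mul, map_mul, map_inv, map_inv, map_zpow, ← h1.eq]
        group)
    have hc : ((k * n : Γ) : G) * y = y * ((k * n : Γ) : G) :=
      congrArg Subtype.val (mem_centralizer_iff.mp hkn yy (mem_zpowers yy)).symm
    have hfl : f k = f (k * n) := by
      rw [map_mul, show f n = 1 from (QuotientGroup.eq_one_iff n).mpr hn, mul_one]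
    rw [hfl]
    refine H48.mem_normalizer_of_cj_eq (H48.cj_eq_self_of_le (H48.cj_le.mpr ?_))
    rintro _ ⟨d, hd, rfl⟩
    refine ⟨k * n * d * (k * n)⁻¹, ?_, by simp⟩
    show ((k * n * d * (k * n)⁻¹ : Γ) : G) ∈ cCore y
    have := Coprime.conj_mem (mem_normalizer_cCore hc) (show (d : G) ∈ cCore y from hd)
    simpa using this

/-- Criterion: `O(C(y)) ∩ C(x)` fixes the side centralized by `y`. -/
theorem Cfg.fix_of_core (c : Cfg S T₁ T₂) {x u v e : G} (hx : centralizer ({x} : Set G) ≠ ⊤)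
    (hu : u ∈ Conjs T₁) (hv : v ∈ Conjs T₂) (huv : u * v = v * u) (hux : u * x = x * u)
    (hvx : v * x = x * v) (hu' : ∀ g, g * x = x * g → u * g = g * u)
    (he : e ∈ cCore (u * v)) (hex : e * x = x * e) : Fix T₁ x e := by
  set Γ := centralizer ({x} : Set G) with hΓ
  set f := QuotientGroup.mk' (Cfsg.oddCore Γ) with hf
  have hy : IsPGroup 2 (zpowers (u * v)) :=
    (isPGroup_pair (isPGroup_zpowers_conjs c.pair.le₁ hu) (isPGroup_zpowers_conjs c.pair.le₂ hv)
      huv).to_le (zpowers_le.mpr (mul_mem (mem_sup_left (mem_zpowers u))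
        (mem_sup_right (mem_zpowers v))))
  have hyx : u * v * x = x * (u * v) := (Commute.mul_left (show Commute u x from hux) hvx).eq
  obtain ⟨hodd, hnorm⟩ := bar_core_facts hy hyx
  set K := ((cCore (u * v)).subgroupOf Γ).map f with hK
  set M := Subgroup.closure (barConjs T₁ x) with hM
  haveI : M.Normal := ⟨fun q hq l => by
    induction hq using closure_induction with
    | mem q hq => exact subset_closure (barConjs_conj hq l)
    | one => simp
    | mul a b _ _ ha hb => simpa [mul_assoc] using mul_mem ha hb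
    | inv a _ ha => simpa [mul_assoc] using inv_mem ha⟩
  have hcomm : ∀ q ∈ barConjs T₁ x,
      Commute q (f ⟨u * v, mem_centralizer_singleton_iff.mpr hyx⟩) := by
    intro q hq
    have h1 := c.commute_bar hx hq
      ⟨⟨v, mem_centralizer_singleton_iff.mpr hvx⟩, hv, rfl⟩
    obtain ⟨g, hg, rfl⟩ := hq
    have h2 : Commute (f g) (f ⟨u, mem_centralizer_singleton_iff.mpr hux⟩) :=
      (show Commute g ⟨u, mem_centralizer_singleton_iff.mpr hux⟩ from
        Subtype.ext (hu' g (mem_centralizer_singleton_iff.mp g.2)).symm).map f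
    have h3 := h2.mul_right h1
    rw [← map_mul] at h3
    exact h3
  have hMK : M ≤ normalizer (K : Set _) := (closure_le _).mpr fun q hq => hnorm q (hcomm q hq)
  refine ⟨hex, fun g hg hgx => ?_⟩
  set ee : Γ := ⟨e, mem_centralizer_singleton_iff.mpr hex⟩ with hee
  set gg : Γ := ⟨g, mem_centralizer_singleton_iff.mpr hgx⟩ with hgg
  refine (commutator_mem_iff ee gg).mpr ?_
  have hgM : f gg ∈ M := subset_closure ⟨gg, hg, rfl⟩
  have heK : f ee ∈ K := ⟨ee, he, rfl⟩
  have h4 : ⁅f ee, f gg⁆ ∈ K ⊓ M := by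
    refine ⟨?_, ?_⟩
    · rw [commutatorElement_def, mul_assoc, mul_assoc]
      have := mul_mem heK (Coprime.conj_mem (hMK hgM) (inv_mem heK))
      simpa [mul_assoc] using this
    · rw [commutatorElement_def]
      exact M.mul_mem ((inferInstance : M.Normal).conj_mem _ hgM _) (M.inv_mem hgM)
  rw [inf_eq_bot_of_core Cores.pPrimeCore_quotient_pPrimeCore M K hodd hMK, mem_bot] at h4
  exact commutatorElement_eq_one_iff_mul_comm.mp h4

/-- Criterion: an element of odd order inverted from the other side. -/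
theorem Cfg.fix_of_inverted (c : Cfg S T₁ T₂) {x v e : G} (hx : centralizer ({x} : Set G) ≠ ⊤)
    (hv : v ∈ Conjs T₂) (hvx : v * x = x * v) (heodd : Odd (orderOf e)) (hex : e * x = x * e)
    (hinv : v * e * v⁻¹ = e⁻¹) : Fix T₁ x e := by
  set Γ := centralizer ({x} : Set G) with hΓ
  set f := QuotientGroup.mk' (Cfsg.oddCore Γ) with hf
  refine ⟨hex, fun g hg hgx => ?_⟩
  set ee : Γ := ⟨e, mem_centralizer_singleton_iff.mpr hex⟩ with hee
  set gg : Γ := ⟨g, mem_centralizer_singleton_iff.mpr hgx⟩ with hgg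
  set vv : Γ := ⟨v, mem_centralizer_singleton_iff.mpr hvx⟩ with hvv
  refine (commutator_mem_iff ee gg).mpr ?_
  have hg' : f gg ∈ barConjs T₁ x := ⟨gg, hg, rfl⟩
  have h1 := c.commute_bar hx hg' ⟨vv, hv, rfl⟩
  have h2 := c.commute_bar hx hg'
    (r := f (ee * vv * ee⁻¹)) ⟨_, by simpa using conj_mem_conjs hv e, rfl⟩
  have e1 : ee * ee = ee * vv * ee⁻¹ * vv⁻¹ := by
    apply Subtype.ext
    show e * e = e * v * e⁻¹ * v⁻¹
    have h : v * e⁻¹ * v⁻¹ = e := by
      calc v * e⁻¹ * v⁻¹ = (v * e * v⁻¹)⁻¹ := by group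
        _ = e := by rw [hinv, inv_inv]
    calc e * e = e * (v * e⁻¹ * v⁻¹) := by rw [h]
      _ = _ := by group
  have h3 : Commute (f gg) (f (ee * ee)) := by
    rw [e1, map_mul, map_inv]
    exact h2.mul_right h1.inv_right
  obtain ⟨r, hr⟩ := heodd
  have e2 : ee = (ee * ee) ^ (r + 1) := by
    apply Subtype.ext
    show e = ((ee * ee) ^ (r + 1) : Γ).1
    simp only [SubmonoidClass.coe_pow, Subgroup.coe_mul]
    show e = (e * e) ^ (r + 1)
    rw [← pow_two, ← pow_mul, show 2 * (r + 1) = orderOf e + 1 by omega, pow_succ,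
      pow_orderOf_eq_one, one_mul]
  rw [e2, map_pow]
  exact (h3.pow_right _).symm

/-- The core lemma: fixed on both sides and in `O(C(y))` implies in `O(C(x))`. -/
theorem Cfg.mem_cCore (c : Cfg S T₁ T₂) {x u v e : G}
    (hu : u ∈ Conjs T₁) (hv : v ∈ Conjs T₂) (huv : u * v = v * u) (hux : u * x = x * u)
    (hvx : v * x = x * v) (he : e ∈ cCore (u * v)) (h₁ : Fix T₁ x e) (h₂ : Fix T₂ x e) :
    e ∈ cCore x := by
  set Γ := centralizer ({x} : Set G) with hΓ
  set f := QuotientGroup.mk' (Cfsg.oddCore Γ) with hf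
  have hy : IsPGroup 2 (zpowers (u * v)) :=
    (isPGroup_pair (isPGroup_zpowers_conjs c.pair.le₁ hu) (isPGroup_zpowers_conjs c.pair.le₂ hv)
      huv).to_le (zpowers_le.mpr (mul_mem (mem_sup_left (mem_zpowers u))
        (mem_sup_right (mem_zpowers v))))
  have hyx : u * v * x = x * (u * v) := (Commute.mul_left (show Commute u x from hux) hvx).eq
  obtain ⟨hodd, hnorm⟩ := bar_core_facts hy hyx
  set K := ((cCore (u * v)).subgroupOf Γ).map f with hK
  set M := Subgroup.centralizer (barConjs T₁ x ∪ barConjs T₂ x) with hM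
  haveI : M.Normal := ⟨fun q hq l => mem_centralizer_iff.mpr fun s hs => by
    have hs' : l⁻¹ * s * l ∈ barConjs T₁ x ∪ barConjs T₂ x := by
      rcases hs with hs | hs
      · exact Or.inl (by simpa using barConjs_conj hs l⁻¹)
      · exact Or.inr (by simpa using barConjs_conj hs l⁻¹)
    have := mem_centralizer_iff.mp hq _ hs'
    calc s * (l * q * l⁻¹) = l * ((l⁻¹ * s * l) * q) * l⁻¹ := by group
      _ = l * (q * (l⁻¹ * s * l)) * l⁻¹ := by rw [this]
      _ = _ := by group⟩
  have hMK : M ≤ normalizer (K : Set _) := by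
    intro q hq
    refine hnorm q ?_
    have h3 := (show Commute q (f ⟨u, mem_centralizer_singleton_iff.mpr hux⟩) from
      (mem_centralizer_iff.mp hq _ (Or.inl ⟨_, hu, rfl⟩)).symm).mul_right
      (show Commute q (f ⟨v, mem_centralizer_singleton_iff.mpr hvx⟩) from
      (mem_centralizer_iff.mp hq _ (Or.inr ⟨_, hv, rfl⟩)).symm)
    rw [← map_mul] at h3
    exact h3
  set ee : Γ := ⟨e, mem_centralizer_singleton_iff.mpr h₁.1⟩ with hee
  have h4 : f ee ∈ K ⊓ M := by
    refine ⟨⟨ee, he, rfl⟩, mem_centralizer_iff.mpr fun s hs => ?_⟩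
    rcases hs with hs | hs
    · exact (h₁.commute s hs).symm
    · exact (h₂.commute s hs).symm
  rw [inf_eq_bot_of_core Cores.pPrimeCore_quotient_pPrimeCore M K hodd hMK, mem_bot] at h4
  exact ⟨ee, (QuotientGroup.eq_one_iff ee).mp h4, rfl⟩

/-- (i): in the cores of an element of each side. -/
theorem Cfg.mem_core_inf (c : Cfg S T₁ T₂) {x u v e : G} (hx : centralizer ({x} : Set G) ≠ ⊤)
    (hu : u ∈ Conjs T₁) (hv : v ∈ Conjs T₂) (hux : u * x = x * u) (hvx : v * x = x * v)
    (heu : e ∈ cCore u) (hev : e ∈ cCore v) (hex : e * x = x * e) : e ∈ cCore x := by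
  refine c.mem_cCore hu (one_mem_conjs T₂) (by simp) hux (by simp) (by rwa [mul_one]) ?_ ?_
  · exact c.fix_of_core hx (one_mem_conjs T₁) hv (by simp) (by simp) hvx (by simp)
      (by rwa [one_mul]) hex
  · exact c.symm.fix_of_core hx (one_mem_conjs T₂) hu (by simp) (by simp) hux (by simp)
      (by rwa [one_mul]) hex

/-- (ii): inverted from both sides. -/
theorem Cfg.mem_core_inverted (c : Cfg S T₁ T₂) {x u' v' u v e : G}
    (hx : centralizer ({x} : Set G) ≠ ⊤) (hu' : u' ∈ Conjs T₁) (hv' : v' ∈ Conjs T₂)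
    (huv' : u' * v' = v' * u') (hu'x : u' * x = x * u') (hv'x : v' * x = x * v')
    (he : e ∈ cCore (u' * v')) (hex : e * x = x * e) (hu : u ∈ Conjs T₁) (hux : u * x = x * u)
    (hui : u * e * u⁻¹ = e⁻¹) (hv : v ∈ Conjs T₂) (hvx : v * x = x * v)
    (hvi : v * e * v⁻¹ = e⁻¹) : e ∈ cCore x :=
  c.mem_cCore hu' hv' huv' hu'x hv'x he
    (c.fix_of_inverted hx hv hvx (odd_orderOf (odd_cCore _) he) hex hvi)
    (c.symm.fix_of_inverted hx hu hux (odd_orderOf (odd_cCore _) he) hex hui)

/-- (iii): in the core of `u`, inverted by an element of the other side. -/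
theorem Cfg.mem_core_half (c : Cfg S T₁ T₂) {x u v e : G} (hx : centralizer ({x} : Set G) ≠ ⊤)
    (hu : u ∈ Conjs T₁) (hux : u * x = x * u) (he : e ∈ cCore u) (hex : e * x = x * e)
    (hv : v ∈ Conjs T₂) (hvx : v * x = x * v) (hvi : v * e * v⁻¹ = e⁻¹) : e ∈ cCore x := by
  refine c.mem_cCore hu (one_mem_conjs T₂) (by simp) hux (by simp) (by rwa [mul_one]) ?_ ?_
  · exact c.fix_of_inverted hx hv hvx (odd_orderOf (odd_cCore _) he) hex hvi
  · exact c.symm.fix_of_core hx (one_mem_conjs T₂) hu (by simp) (by simp) hux (by simp)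
      (by rwa [one_mul]) hex

/-- (iv): in the core of a product, centralizing one factor, inverted from that factor's side. -/
theorem Cfg.mem_core_prod (c : Cfg S T₁ T₂) {u v u' e : G} (hu : u ∈ Conjs T₁)
    (hne : u ≠ 1) (hv : v ∈ Conjs T₂) (huv : u * v = v * u) (he : e ∈ cCore (u * v))
    (heu : e * u = u * e) (hu' : u' ∈ Conjs T₁) (hu'u : u' * u = u * u')
    (hi : u' * e * u'⁻¹ = e⁻¹) : e ∈ cCore u :=
  c.mem_cCore hu hv huv rfl huv.symm he
    (c.fix_of_core (c.centralizer_ne_top hu hne) hu hv huv rfl huv.symm (fun _ hg => hg.symm) he heu)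
    (c.symm.fix_of_inverted (c.centralizer_ne_top hu hne) hu' hu'u
      (odd_orderOf (odd_cCore _) he) heu hi)

/-- In the cores of a product and of an element of the second side, centralizing `u`. -/
theorem Cfg.mem_core_prod_inf (c : Cfg S T₁ T₂) {u v u' e : G} (hu : u ∈ Conjs T₁)
    (hne : u ≠ 1) (hv : v ∈ Conjs T₂) (huv : u * v = v * u) (he : e ∈ cCore (u * v))
    (heu : e * u = u * e) (hu' : u' ∈ Conjs T₁) (hu'u : u' * u = u * u')
    (he' : e ∈ cCore u') : e ∈ cCore u :=
  c.mem_cCore hu hv huv rfl huv.symm he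
    (c.fix_of_core (c.centralizer_ne_top hu hne) hu hv huv rfl huv.symm (fun _ hg => hg.symm) he heu)
    (c.symm.fix_of_core (c.centralizer_ne_top hu hne) (one_mem_conjs T₂) hu' (by simp) (by simp)
      hu'u (by simp) (by rwa [one_mul]) heu)

end Cfsg.Agent.H52.Commuting
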